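import Groth.Agent.Sga3B.CellCI
import Groth.Agent.Sga3B.CellUP
import Groth.Agent.Sga3B.RootCoact

/-!
# The conjugation coaction of the torus of a datum

For `D : Datum R A` the torus `D(M)` acts on `Spec A` by conjugation: `orb D g` is the
`B[M]`-valued point `s g s⁻¹` (`s` the universal torus point).  `coact D : Coact R A D.M`.
-/

set_option autoImplicit false
universe u

namespace Groth.Agent.RedSub.H635.ConjCoact

open Groth.Agent.Sga3B.Cell Groth.Agent.Sga3B.Cell.Datum Groth.Agent.Sga3B

variable {R A : Type u} [CommRing R] [CommRing A] [Algebra R A] [PtGrp R A] (D : Datum R A)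
variable {B C : Type u} [CommRing B] [Algebra R B] [CommRing C] [Algebra R C]

/-- `B[M]` -/
abbrev MA (B : Type u) [CommRing B] : Type u := MonoidAlgebra B (Multiplicative D.M)

/-- constants `B → B[M]` -/
noncomputable def cM (B : Type u) [CommRing B] [Algebra R B] : B →ₐ[R] MA D B :=
  IsScalarTower.toAlgHom R B (MonoidAlgebra B (Multiplicative D.M))

lemma cM_apply (b : B) : cM D B b = MonoidAlgebra.single 1 b := by
  change algebraMap B (MonoidAlgebra B (Multiplicative D.M)) b = _
  rw [MonoidAlgebra.coe_algebraMap]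
  rfl

/-- functoriality `B[M] → C[M]` -/
noncomputable def mM (φ : B →ₐ[R] C) : MA D B →ₐ[R] MA D C :=
  MonoidAlgebra.mapAlgHom (Multiplicative D.M) φ

lemma coeff_mM (φ : B →ₐ[R] C) (f : MA D B) (m : Multiplicative D.M) :
    (mM D φ f).coeff m = φ (f.coeff m) := MonoidAlgebra.coeff_mapAlgHom _ _ _

lemma mM_single (φ : B →ₐ[R] C) (m : Multiplicative D.M) (b : B) :
    mM D φ (MonoidAlgebra.single m b) = MonoidAlgebra.single m (φ b) :=
  MonoidAlgebra.mapAlgHom_single _ _ _

lemma mM_comp_cM (φ : B →ₐ[R] C) : (mM D φ).comp (cM D B) = (cM D C).comp φ := by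
  refine AlgHom.ext fun b => ?_
  rw [AlgHom.comp_apply, AlgHom.comp_apply, cM_apply, cM_apply, mM_single]

lemma map_mM_sU (φ : B →ₐ[R] C) : TPt.map (mM D φ) (D.sU (B := B)) = D.sU (B := C) := by
  apply TPt.ext_ch
  intro m
  rw [TPt.ch_map, ch_sU, ch_sU, mM_single, map_one]

/-- evaluation `B[M] → B` at a torus point -/
noncomputable def eM (t : TPt D.M B) : MA D B →ₐ[R] B :=
  ((MonoidAlgebra.lift B B (Multiplicative D.M) ((Units.coeHom B).comp t)).restrictScalars R)

lemma eM_single (t : TPt D.M B) (m : Multiplicative D.M) (b : B) :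
    eM (R := R) D t (MonoidAlgebra.single m b) = b * (t m : B) := by
  change MonoidAlgebra.lift B B (Multiplicative D.M) ((Units.coeHom B).comp t)
    (MonoidAlgebra.single m b) = _
  rw [MonoidAlgebra.lift_single]
  rfl

lemma eM_apply (t : TPt D.M B) (f : MA D B) :
    eM (R := R) D t f = f.coeff.sum fun m b => b * (t m : B) := by
  change MonoidAlgebra.lift B B (Multiplicative D.M) ((Units.coeHom B).comp t) f = _
  rw [MonoidAlgebra.lift_apply]
  rfl

lemma eM_comp_cM (t : TPt D.M B) : (eM (R := R) D t).comp (cM D B) = AlgHom.id R B := by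
  refine AlgHom.ext fun b => ?_
  rw [AlgHom.comp_apply, cM_apply, eM_single, map_one, Units.val_one, mul_one]
  rfl

lemma map_eM_sU (t : TPt D.M B) : TPt.map (eM (R := R) D t) (D.sU (B := B)) = t := by
  apply TPt.ext_ch
  intro m
  rw [TPt.ch_map, ch_sU, eM_single, one_mul]
  rfl

/-- The orbit `s g s⁻¹` of a point under conjugation. -/
noncomputable def orb (g : Pt R A B) : Pt R A (MA D B) :=
  D.i _ (D.sU (B := B)) * Pt.map (cM D B) g * (D.i _ (D.sU (B := B)))⁻¹

lemma orb_mul (g h : Pt R A B) : orb D (g * h) = orb D g * orb D h := by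
  unfold orb
  rw [Pt.map_mul]
  group

lemma orb_one : orb D (1 : Pt R A B) = 1 := by
  unfold orb
  rw [Pt.map_one]
  group

lemma orb_inv (g : Pt R A B) : orb D g⁻¹ = (orb D g)⁻¹ := by
  unfold orb
  rw [Pt.map_inv]
  group

/-- `orb` as a homomorphism -/
noncomputable def orbHom (B : Type u) [CommRing B] [Algebra R B] : Pt R A B →* Pt R A (MA D B) where
  toFun := orb D
  map_one' := orb_one D
  map_mul' := orb_mul D

lemma map_orb (φ : B →ₐ[R] C) (g : Pt R A B) : Pt.map (mM D φ) (orb D g) = orb D (Pt.map φ g) := by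
  unfold orb
  rw [Pt.map_mul, Pt.map_mul, Pt.map_inv, D.i_nat, map_mM_sU, Pt.map_map, mM_comp_cM, ← Pt.map_map]

lemma conj_eq (t : TPt D.M B) (g : Pt R A B) :
    D.i B t * g * (D.i B t)⁻¹ = Pt.map (eM D t) (orb D g) := by
  unfold orb
  rw [Pt.map_mul, Pt.map_mul, Pt.map_inv, D.i_nat, map_eM_sU, Pt.map_map, eM_comp_cM]
  rfl

/-- The coaction `A → A[M]` by conjugation. -/
noncomputable def rho : A →ₐ[R] MA D A := (orb D (Pt.mk (AlgHom.id R A))).hom

lemma orb_eq (g : Pt R A B) : orb D g = Pt.mk ((mM D g.hom).comp (rho D)) := by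
  have h := map_orb D g.hom (Pt.mk (AlgHom.id R A))
  have h2 : Pt.map g.hom (Pt.mk (AlgHom.id R A)) = g := rfl
  rw [h2] at h
  exact h.symm

lemma orb_hom_apply (g : Pt R A B) (f : A) : (orb D g).hom f = mM D g.hom (rho D f) := by
  rw [orb_eq]
  rfl

lemma coeff_orb (g : Pt R A B) (f : A) (m : Multiplicative D.M) :
    ((orb D g).hom f).coeff m = g.hom ((rho D f).coeff m) := by
  rw [orb_hom_apply, coeff_mM]

lemma conj_apply (t : TPt D.M B) (g : Pt R A B) (f : A) :
    (D.i B t * g * (D.i B t)⁻¹).hom f =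
      (rho D f).coeff.sum fun m b => g.hom b * (t m : B) := by
  rw [conj_eq, orb_eq]
  change eM D t (mM D g.hom (rho D f)) = _
  rw [eM_apply]
  have h : ∀ z : MA D A, ((mM D g.hom z).coeff.sum fun m b => b * (t m : B)) =
      z.coeff.sum fun m b => g.hom b * (t m : B) := by
    intro z
    induction z using MonoidAlgebra.induction_linear with
    | zero => simp
    | add x y hx hy =>
      rw [map_add, MonoidAlgebra.coeff_add, Finsupp.sum_add_index', hx, hy,
        MonoidAlgebra.coeff_add, Finsupp.sum_add_index'] <;> intros <;> simp [add_mul]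
    | single m a =>
      rw [mM_single, MonoidAlgebra.coeff_single, MonoidAlgebra.coeff_single,
        Finsupp.sum_single_index (by simp), Finsupp.sum_single_index (by simp)]
  exact h _

lemma sum_rho (f : A) : ((rho D f).coeff.sum fun _ b => b) = f := by
  have h := conj_apply D (1 : TPt D.M A) (Pt.mk (AlgHom.id R A)) f
  rw [map_one, one_mul, inv_one, mul_one] at h
  simpa using h.symm

lemma rho_coeff (f : A) (m : Multiplicative D.M) :
    rho D ((rho D f).coeff m) = MonoidAlgebra.single m ((rho D f).coeff m) := by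
  classical
  -- the diagonal map `A[M] → A[M][M]`
  let δ : TPt D.M (MA D (MA D A)) := TPt.mulP (D.sU (B := MA D A))
    (TPt.map (cM D (MA D A)) (D.sU (B := A)))
  have hδ : ∀ m : Multiplicative D.M, ((δ m : _) : MA D (MA D A)) =
      MonoidAlgebra.single m (MonoidAlgebra.single m (1 : A)) := by
    intro m
    have h1 : ((δ m : _) : MA D (MA D A)) = TPt.ch m.toAdd (D.sU (B := MA D A)) *
        TPt.ch m.toAdd (TPt.map (cM D (MA D A)) (D.sU (B := A))) := rfl
    rw [h1, TPt.ch_map, ch_sU, ch_sU, cM_apply, MonoidAlgebra.single_mul_single]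
    simp
  let c0 : A →ₐ[R] MA D (MA D A) := (cM D (MA D A)).comp (cM D A)
  have h1 : orb D (orb D (Pt.mk (AlgHom.id R A))) =
      D.i _ δ * Pt.map c0 (Pt.mk (AlgHom.id R A)) * (D.i _ δ)⁻¹ := by
    have h2 : D.i _ δ = D.i _ (D.sU (B := MA D A)) *
        D.i _ (TPt.map (cM D (MA D A)) (D.sU (B := A))) := i_mulP D _ _
    rw [h2]
    conv_lhs => rw [orb]
    rw [orb, Pt.map_mul, Pt.map_mul, Pt.map_inv, D.i_nat, Pt.map_map]
    change _ = _ * _ * Pt.map ((cM D (MA D A)).comp (cM D A)) _ * _
    group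
  have h3 := congrArg (fun g : Pt R A (MA D (MA D A)) => (g.hom f).coeff m) h1
  simp only [coeff_orb] at h3
  change rho D ((rho D f).coeff m) = _ at h3
  rw [h3, conj_apply]
  rw [Finsupp.sum, MonoidAlgebra.coeff_sum, Finset.sum_apply']
  have hr : ∀ x : Multiplicative D.M,
      (((Pt.map c0 (Pt.mk (AlgHom.id R A))).hom ((rho D f).coeff x)) * (δ x : MA D (MA D A))).coeff m =
        if x = m then MonoidAlgebra.single x ((rho D f).coeff x) else 0 := by
    intro x
    have h4 : (Pt.map c0 (Pt.mk (AlgHom.id R A))).hom ((rho D f).coeff x) =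
      MonoidAlgebra.single 1 (MonoidAlgebra.single 1 ((rho D f).coeff x)) := by
      change cM D (MA D A) (cM D A _) = _
      rw [cM_apply, cM_apply]
      rfl
    rw [h4, hδ, MonoidAlgebra.single_mul_single, MonoidAlgebra.single_mul_single, one_mul,
      mul_one, MonoidAlgebra.coeff_single, Finsupp.single_apply]
  simp only [hr]
  rw [Finset.sum_ite_eq']
  split_ifs with hm
  · rfl
  · rw [Finsupp.notMem_support_iff] at hm
    rw [hm, MonoidAlgebra.single_zero]

/-- The conjugation coaction. -/
noncomputable def coact : RootCoact.Coact R A D.M where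
  rho := rho D
  sum_rho := sum_rho D
  rho_coeff := rho_coeff D

@[simp] lemma coact_rho : (coact D).rho = rho D := rfl

end Groth.Agent.RedSub.H635.ConjCoact
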