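import Groth.Prelude.Def_Red2
import Mathlib.LinearAlgebra.SymmetricAlgebra.Basis
import Mathlib.RingTheory.Smooth.Basic
import Mathlib.RingTheory.FinitePresentation
import Mathlib.AlgebraicGeometry.Morphisms.Smooth

/-!
# `𝔾_a` is smooth
-/

set_option autoImplicit false
universe u

open CategoryTheory AlgebraicGeometry

namespace Groth.Agent.RedSub.H635.GaSm

variable {S : Scheme.{u}}

attribute [local instance 10] ULift.algebra'

lemma smooth_mv (R : Type u) [CommRing R] : Algebra.Smooth R (MvPolynomial Unit R) where
  formallySmooth := inferInstance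
  finitePresentation := inferInstance

lemma smooth_sym (R : Type u) [CommRing R] : Algebra.Smooth R (SymmetricAlgebra R R) :=
  have := smooth_mv R
  Algebra.Smooth.of_equiv (SymmetricAlgebra.equivMvPolynomial (Module.Basis.singleton Unit R)).symm

/-- `𝔾_a` is smooth. -/
theorem smooth_ga : Smooth (Red.Ga S).hom := by
  have h1 : Smooth Red.GaZ.{u}.hom := by
    change Smooth (Spec.map (CommRingCat.ofHom (algebraMap (ULift.{u} ℤ)
      (SymmetricAlgebra (ULift.{u} ℤ) (ULift.{u} ℤ)))))
    rw [HasRingHomProperty.Spec_iff (P := @Smooth)]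
    exact RingHom.smooth_algebraMap.2 (smooth_sym _)
  exact MorphismProperty.pullback_snd _ _ h1

end Groth.Agent.RedSub.H635.GaSm
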