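import Groth.Agent.RedSub.H635.Idem
import Mathlib.RingTheory.RingHom.Etale
import Mathlib.RingTheory.TensorProduct.Basic

/-!
# The étale germ of the big cell of a subgroup
-/

set_option autoImplicit false
universe u

open TensorProduct

namespace Groth.Agent.RedSub.H635.Germ

open Groth.Agent.Sga3B.Cell Groth.Agent.Sga3B.Cell.Datum Groth.Agent.Sga3B
open ConjCoact Wt Loc

/-- étale base change with its universal property -/
theorem exists_push {R A B C : Type u} [CommRing R] [CommRing A] [CommRing B] [CommRing C]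
    [Algebra R A] [Algebra R B] [Algebra R C] (β : A →ₐ[R] B) (φ : A →ₐ[R] C)
    (hφ : (φ : A →+* C).Etale) :
    ∃ (E : Type u) (_ : CommRing E) (_ : Algebra R E) (ib : B →ₐ[R] E) (ic : C →ₐ[R] E),
      ib.comp β = ic.comp φ ∧ (ib : B →+* E).Etale ∧
      (∀ (T : Type u) [CommRing T] [Algebra R T] (b : B →ₐ[R] T) (c : C →ₐ[R] T),
        b.comp β = c.comp φ → ∃ v : E →ₐ[R] T, v.comp ib = b ∧ v.comp ic = c) ∧
      (∀ (T : Type u) [CommRing T] [Algebra R T] (v v' : E →ₐ[R] T),
        v.comp ib = v'.comp ib → v.comp ic = v'.comp ic → v = v') := by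
  let _ : Algebra A B := (β : A →+* B).toAlgebra
  let _ : Algebra A C := (φ : A →+* C).toAlgebra
  have : IsScalarTower R A B := .of_algebraMap_eq fun r => (β.commutes r).symm
  have : IsScalarTower R A C := .of_algebraMap_eq fun r => (φ.commutes r).symm
  have : Algebra.Etale A C := hφ
  let ib : B →ₐ[R] B ⊗[A] C := Algebra.TensorProduct.includeLeft
  let ic : C →ₐ[R] B ⊗[A] C :=
    (Algebra.TensorProduct.includeRight : C →ₐ[A] B ⊗[A] C).restrictScalars R
  have hcomm : ib.comp β = ic.comp φ := by
    apply AlgHom.ext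
    intro f
    change (β f) ⊗ₜ[A] (1 : C) = (1 : B) ⊗ₜ[A] (φ f)
    have h1 : β f = f • (1 : B) := (mul_one (β f)).symm
    have h2 : φ f = f • (1 : C) := (mul_one (φ f)).symm
    rw [h1, h2, TensorProduct.smul_tmul]
  refine ⟨B ⊗[A] C, inferInstance, inferInstance, ib, ic, hcomm, ?_, ?_, ?_⟩
  · change (algebraMap B (B ⊗[A] C)).Etale
    rw [RingHom.etale_algebraMap]
    infer_instance
  · intro T _ _ b c hbc
    let _ : Algebra A T := ((b : B →+* T).comp (β : A →+* B)).toAlgebra
    have : IsScalarTower R A T := .of_algebraMap_eq fun r => by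
      change _ = b (β (algebraMap R A r))
      rw [β.commutes, b.commutes]
    let b' : B →ₐ[A] T := { (b : B →+* T) with commutes' := fun f => rfl }
    let c' : C →ₐ[A] T := { (c : C →+* T) with commutes' := fun f =>
      (congrArg (fun k : A →ₐ[R] T => k f) hbc).symm }
    refine ⟨(Algebra.TensorProduct.productMap b' c').restrictScalars R, ?_, ?_⟩
    · apply AlgHom.ext
      intro z
      change Algebra.TensorProduct.productMap b' c' (z ⊗ₜ 1) = b z
      rw [Algebra.TensorProduct.productMap_apply_tmul, map_one, mul_one]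
      rfl
    · apply AlgHom.ext
      intro z
      change Algebra.TensorProduct.productMap b' c' (1 ⊗ₜ z) = c z
      rw [Algebra.TensorProduct.productMap_apply_tmul, map_one, one_mul]
      rfl
  · intro T _ _ v v' h1 h2
    apply AlgHom.ext
    intro z
    induction z using TensorProduct.induction_on with
    | zero => rw [map_zero, map_zero]
    | add x y hx hy => rw [map_add, map_add, hx, hy]
    | tmul x y =>
      have h3 : x ⊗ₜ[A] y = ib x * ic y := by
        change _ = (x ⊗ₜ[A] (1 : C)) * ((1 : B) ⊗ₜ[A] y)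
        rw [Algebra.TensorProduct.tmul_mul_tmul, mul_one, one_mul]
      rw [h3, map_mul, map_mul]
      congr 1
      · exact congrArg (fun k : B →ₐ[R] T => k x) h1
      · exact congrArg (fun k : C →ₐ[R] T => k y) h2

variable {R A : Type u} [CommRing R] [CommRing A] [Algebra R A] [PtGrp R A]
variable {D : Datum R A} {H : Sub R A} (N : Nbd H)

lemma mem_cell {C : Type u} [CommRing C] [Algebra R C]
    (hT : ∀ {C : Type u} [CommRing C] [Algebra R C] (t : TPt D.M C), H.mem (D.i C t))
    (L : List D.idx) (x : D.idx → C) (t : TPt D.M C) (h : ∀ a, H.mem (D.uu a C (x a))) :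
    H.mem (D.cell L x t) := by
  unfold cell
  apply H.mul_mem _ (hT t)
  induction L with
  | nil => exact H.one_mem
  | cons a L ih =>
    rw [List.map_cons, List.prod_cons]
    exact H.mul_mem (h a) ih

/-- a homomorphism out of the localization of the cell ring -/
lemma exists_loc {T : Type u} [CommRing T] [Algebra R T] (δ : D.CR) (x : D.idx → T) (t : TPt D.M T)
    (h : IsUnit (D.ev x t δ)) : ∃ c : Localization.Away δ →ₐ[R] T,
      c.comp (IsScalarTower.toAlgHom R D.CR (Localization.Away δ)) = D.ev x t := by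
  let c : Localization.Away δ →+* T := IsLocalization.Away.lift (S := Localization.Away δ) δ
    (g := (D.ev x t : D.CR →+* T)) h
  have hc : ∀ z, c (algebraMap D.CR _ z) = D.ev x t z := fun z => IsLocalization.Away.lift_eq δ h z
  refine ⟨{ c with commutes' := fun r => ?_ }, ?_⟩
  · change c (algebraMap R _ r) = _
    rw [IsScalarTower.algebraMap_apply R D.CR, hc, AlgHom.commutes]
  · exact AlgHom.ext hc

lemma loc_ext {T : Type u} [CommRing T] [Algebra R T] (δ : D.CR)
    {c c' : Localization.Away δ →ₐ[R] T}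
    (h : c.comp (IsScalarTower.toAlgHom R D.CR (Localization.Away δ)) =
      c'.comp (IsScalarTower.toAlgHom R D.CR (Localization.Away δ))) : c = c' := by
  have h2 : (c : Localization.Away δ →+* T) = c' := by
    apply IsLocalization.ringHom_ext (Submonoid.powers δ)
    refine RingHom.ext fun w => ?_
    exact congrArg (fun k : D.CR →ₐ[R] T => k w) h
  exact AlgHom.ext fun z => congrArg (fun k : Localization.Away δ →+* T => k z) h2

/-- **Étale germ.** If the roots in `Rs` lie in the subgroup and the others are not even tangent to it, the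
cell of `Rs` has an étale germ in the subgroup. -/
theorem exists_germ (hG : D.Good)
    (hT : ∀ {C : Type u} [CommRing C] [Algebra R C] (t : TPt D.M C), H.mem (D.i C t))
    (Rs : D.idx → Prop)
    (hin : ∀ b, Rs b → ∀ {C : Type u} [CommRing C] [Algebra R C] (x : C), H.mem (D.uu b C x))
    (hout : ∀ b, ¬ Rs b → ∃ f ∈ N.J 1, IsW D (D.root b) f ∧ lin D b f = 1) (L : List D.idx)
    (hL : L.Nodup) (hL' : ∀ a, a ∈ L) :
    ∃ (E : Type u) (_ : CommRing E) (_ : Algebra R E) (j : N.B →ₐ[R] E) (x : D.idx → E)
      (t : TPt D.M E) (e : E →ₐ[R] R), (j : N.B →+* E).Etale ∧ (∀ b, ¬ Rs b → x b = 0) ∧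
      Pt.map j (Pt.mk N.β) = D.cell L x t ∧ e.comp j = N.eB := by
  classical
  obtain ⟨δ, hδ, hδ0⟩ := hG L hL hL'
  let Ch := Localization.Away δ
  let ι : D.CR →ₐ[R] Ch := IsScalarTower.toAlgHom R D.CR Ch
  let φ : A →ₐ[R] Ch := ι.comp (D.phi L)
  have hφ : (φ : A →+* Ch).Etale := hδ
  obtain ⟨E, _, _, ib, ic, hcomm, het, hpush, hext⟩ := exists_push N.β φ hφ
  -- coordinates
  let x : D.idx → E := fun a => ic (ι (MvPolynomial.X a))
  let t : TPt D.M E := TPt.map (ic.comp ι) D.tU
  have hev : ic.comp ι = D.ev x t := D.eq_ev (ic.comp ι)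
  have hcell : Pt.map ib (Pt.mk N.β) = D.cell L x t := by
    apply Pt.ext
    intro f
    rw [← ev_phi, ← hev]
    exact congrArg (fun k : A →ₐ[R] E => k f) hcomm
  have hext' : ∀ (T : Type u) [CommRing T] [Algebra R T] (v v' : E →ₐ[R] T),
      v.comp ib = v'.comp ib → (∀ a, v (x a) = v' (x a)) → TPt.map v t = TPt.map v' t → v = v' := by
    intro T _ _ v v' h1 h2 h3
    apply hext T v v' h1
    apply loc_ext
    rw [AlgHom.comp_assoc, AlgHom.comp_assoc, hev, comp_ev, comp_ev, h3]
    congr 1
    exact funext h2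
  have hpush' : ∀ (T : Type u) [CommRing T] [Algebra R T] (b : N.B →ₐ[R] T) (x' : D.idx → T)
      (t' : TPt D.M T), b.comp N.β = (D.cell L x' t').hom → IsUnit (D.ev x' t' δ) →
      ∃ v : E →ₐ[R] T, v.comp ib = b ∧ (∀ a, v (x a) = x' a) ∧ TPt.map v t = t' := by
    intro T _ _ b x' t' h1 h2
    obtain ⟨c, hc⟩ := exists_loc δ x' t' h2
    obtain ⟨v, hv, hv'⟩ := hpush T b c (by
      rw [h1, ← AlgHom.comp_assoc, hc, ev_comp_phi])
    have h3 : v.comp (ic.comp ι) = D.ev x' t' := by
      rw [← AlgHom.comp_assoc, hv', hc]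
    rw [hev, comp_ev] at h3
    obtain ⟨h4, h5⟩ := D.ev_injective h3
    exact ⟨v, hv, fun a => congrFun h4 a, h5⟩
  -- the unit section
  obtain ⟨e, he, hex, het'⟩ := hpush' R N.eB (fun _ => 0) 1 (by
    rw [cell_zero, i_one', N.eB_comp]
    rfl) (by
    change IsUnit (D.ev0 δ)
    rw [hδ0]
    exact isUnit_one)
  let IE : Ideal E := RingHom.ker e
  have hxI : ∀ a, x a ∈ IE := fun a => hex a
  -- the ideal of the cell of `Rs`
  let K : Ideal E := Ideal.span (Set.range fun b : {b : D.idx // ¬ Rs b} => x b)
  have hxK : ∀ b, ¬ Rs b → x b ∈ K := fun b hb => Ideal.subset_span ⟨⟨b, hb⟩, rfl⟩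
  have hKfg : K.FG := Submodule.fg_span (Set.finite_range _)
  -- first claim
  have claim : K ≤ IE ^ 2 := by
    rw [Ideal.span_le]
    rintro _ ⟨⟨b, hb⟩, rfl⟩
    obtain ⟨f, hf, hf', hf1⟩ := hout b hb
    have h1 : ib (N.β f) ∈ IE ^ 2 := by
      have h2 : Ideal.map ib N.IB ≤ IE := by
        rw [Ideal.map_le_iff_le_comap]
        intro z hz
        exact (congrArg (fun k : N.B →ₐ[R] R => k z) he).trans hz
      refine Ideal.pow_right_mono h2 2 ?_
      rw [← Ideal.map_pow]
      exact Ideal.mem_map_of_mem ib hf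
    let Q := E ⧸ IE ^ 2
    let q : E →ₐ[R] Q := Ideal.Quotient.mkₐ R _
    have hJ : ∀ y ∈ Ideal.map q IE, ∀ z ∈ Ideal.map q IE, y * z = 0 := by
      intro y hy z hz
      have h2 : y * z ∈ Ideal.map q IE * Ideal.map q IE := Ideal.mul_mem_mul hy hz
      rw [← Ideal.map_mul, ← pow_two] at h2
      have h3 : Ideal.map q (IE ^ 2) = ⊥ := Ideal.map_quotient_self (IE ^ 2)
      rw [h3] at h2
      exact h2
    have hxJ : ∀ a, q (x a) ∈ Ideal.map q IE := fun a => Ideal.mem_map_of_mem q (hxI a)
    have htJ : ∀ m, ((TPt.map q t m : _) : Q) - 1 ∈ Ideal.map q IE := by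
      intro m
      rw [TPt.map_apply, ← map_one q, ← map_sub]
      apply Ideal.mem_map_of_mem
      change e (_ - 1) = 0
      rw [map_sub, map_one, sub_eq_zero]
      exact congrArg (TPt.ch m.toAdd) het'
    have h2 := ev_first D hJ hxJ htJ (D.phi L f)
    rw [constantCoeff_phi, pi_eq_zero D hf' (D.root_ne b), map_zero, zero_add,
      Finset.sum_eq_single b] at h2
    · rw [cl_phi D hL hL', hf1, map_one, one_mul, ← comp_ev, ← hev] at h2
      have h3 : ic (ι (D.phi L f)) = ib (N.β f) :=
        (congrArg (fun k : A →ₐ[R] E => k f) hcomm).symm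
      have h4 : q (ib (N.β f)) = q (x b) := by
        rw [← h3]
        exact h2
      have h5 : q (ib (N.β f)) = 0 := Ideal.Quotient.eq_zero_iff_mem.mpr h1
      rw [h5] at h4
      exact Ideal.Quotient.eq_zero_iff_mem.mp h4.symm
    · intro a _ hab
      rw [cl_phi D hL hL', lin_eq_zero D hf' a (fun h => hab (D.root_inj h)), map_zero, zero_mul]
    · intro h
      exact absurd (Finset.mem_univ b) h
  have hKI : K ≤ IE := le_trans claim (Ideal.pow_le_self two_ne_zero)
  -- second claim
  have claim2 : K ≤ IE * K := by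
    let T := E ⧸ K ^ 2
    let can : E →ₐ[R] T := Ideal.Quotient.mkₐ R _
    let pr : T →ₐ[R] E ⧸ K := Ideal.Quotient.factorₐ R (Ideal.pow_le_self two_ne_zero)
    have hprcan : pr.comp can = Ideal.Quotient.mkₐ R K := AlgHom.ext fun z => rfl
    have hprc : ∀ z, pr (can z) = Ideal.Quotient.mk K z := fun z => rfl
    have hker : ∀ z, pr z = 0 → z ∈ Ideal.map can K := by
      intro z hz
      obtain ⟨y, rfl⟩ := Ideal.Quotient.mk_surjective z
      exact Ideal.mem_map_of_mem can (Ideal.Quotient.eq_zero_iff_mem.mp hz)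
    have hKK : ∀ y ∈ Ideal.map can K, ∀ z ∈ Ideal.map can K, y * z = 0 := by
      intro y hy z hz
      have h2 : y * z ∈ Ideal.map can K * Ideal.map can K := Ideal.mul_mem_mul hy hz
      rw [← Ideal.map_mul, ← pow_two] at h2
      have h3 : Ideal.map can (K ^ 2) = ⊥ := Ideal.map_quotient_self (K ^ 2)
      rw [h3] at h2
      exact h2
    have hunit : ∀ y z : T, IsUnit z → pr y = pr z → IsUnit y := by
      intro y z hz h
      refine isUnit_of_sub_nilpotent hz ⟨2, ?_⟩
      have h1 : y - z ∈ Ideal.map can K := hker _ (by rw [map_sub, h, sub_self])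
      rw [pow_two]
      exact hKK _ h1 _ h1
    let x' : D.idx → T := fun b => if Rs b then can (x b) else 0
    have hx' : ∀ a, pr (x' a) = pr (can (x a)) := by
      intro a
      by_cases ha : Rs a
      · simp only [x', if_pos ha]
      · simp only [x', if_neg ha, map_zero]
        exact (Ideal.Quotient.eq_zero_iff_mem.mpr (hxK a ha)).symm
    let t' : TPt D.M T := TPt.map can t
    have hmem : H.mem (D.cell L x' t') := by
      apply mem_cell hT
      intro a
      by_cases ha : Rs a
      · exact hin a ha _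
      · simp only [x', if_neg ha, uu_zero]
        exact H.one_mem
    have hcell' : Pt.map pr (D.cell L x' t') = Pt.map pr (Pt.map can (Pt.map ib (Pt.mk N.β))) := by
      rw [hcell, cell_nat, cell_nat, cell_nat]
      congr 1
      funext a
      exact hx' a
    have hg : IsUnit ((D.cell L x' t').hom N.g) := by
      apply hunit _ (can (ib (N.β N.g)))
      · exact (N.isUnit_g.map ib).map can
      · exact congrArg (fun k : Pt R A _ => k.hom N.g) hcell'
    obtain ⟨b', hb'⟩ := N.lift _ hmem hg
    have hδ' : IsUnit (D.ev x' t' δ) := by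
      apply hunit _ (can (ic (ι δ)))
      · exact ((IsLocalization.Away.algebraMap_isUnit (S := Ch) δ).map ic).map can
      · have h1 : pr (D.ev x' t' δ) = pr (can (D.ev x t δ)) := by
          have h2 : pr.comp (D.ev x' t') = pr.comp (can.comp (D.ev x t)) := by
            rw [comp_ev, comp_ev, comp_ev]
            congr 1
            funext a
            exact hx' a
          exact congrArg (fun k : D.CR →ₐ[R] _ => k δ) h2
        rw [h1, ← hev]
        rfl
    obtain ⟨τ, hτ1, hτ2, hτ3⟩ := hpush' T b' x' t' hb' hδ'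
    have hτK : ∀ z ∈ K, τ z = 0 := by
      have h1 : K ≤ RingHom.ker τ := by
        rw [Ideal.span_le]
        rintro _ ⟨⟨b, hb⟩, rfl⟩
        change τ (x b) = 0
        rw [hτ2]
        simp only [x', if_neg hb]
      exact fun z hz => h1 hz
    have hpr : pr.comp τ = pr.comp can := by
      apply hext'
      · rw [AlgHom.comp_assoc, hτ1]
        apply N.hom_ext
        rw [AlgHom.comp_assoc, hb']
        exact hcell'
      · intro a
        change pr (τ (x a)) = pr (can (x a))
        rw [hτ2, hx']
      · apply TPt.ext_ch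
        intro m
        change pr (τ (TPt.ch m t)) = pr (can (TPt.ch m t))
        have h2 := congrArg (TPt.ch m) hτ3
        rw [TPt.ch_map] at h2
        rw [h2]
        rfl
    have hdiff : ∀ z, can z - τ z ∈ Ideal.map can K := by
      intro z
      apply hker
      rw [map_sub, sub_eq_zero]
      exact (congrArg (fun k : E →ₐ[R] _ => k z) hpr).symm
    have hmain : ∀ z ∈ IE ^ 2, can z - τ z ∈ Ideal.map can (IE * K) := by
      intro z hz
      rw [pow_two] at hz
      induction hz using Submodule.mul_induction_on' with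
      | mem_mul_mem p hp q hq =>
        have h1 : can (p * q) - τ (p * q) = can q * (can p - τ p) + τ p * (can q - τ q) := by
          rw [map_mul, map_mul]
          ring
        have h2 : τ p ∈ Ideal.map can IE := by
          have h3 := sub_mem (Ideal.mem_map_of_mem can hp) (Ideal.map_mono hKI (hdiff p))
          rwa [sub_sub_cancel] at h3
        rw [h1, Ideal.map_mul]
        exact add_mem (Ideal.mul_mem_mul (Ideal.mem_map_of_mem can hq) (hdiff p))
          (Ideal.mul_mem_mul h2 (hdiff q))
      | add y _ z _ hy hz =>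
        have h1 : can (y + z) - τ (y + z) = (can y - τ y) + (can z - τ z) := by
          rw [map_add, map_add]
          ring
        rw [h1]
        exact add_mem hy hz
    intro z hz
    have h1 := hmain z (claim hz)
    rw [hτK z hz, sub_zero] at h1
    have h2 : z ∈ (Ideal.map can (IE * K)).comap can := h1
    have h3 : z ∈ (IE * K) ⊔ K ^ 2 := by
      have h4 := Ideal.comap_map_of_surjective' can
        (Ideal.Quotient.mk_surjective (I := K ^ 2)) (IE * K)
      have h5 : RingHom.ker can = K ^ 2 := Ideal.mk_ker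
      rw [h5] at h4
      rw [h4] at h2
      exact h2
    have h4 : K ^ 2 ≤ IE * K := by
      rw [pow_two]
      exact Ideal.mul_mono_left hKI
    exact (sup_le le_rfl h4) h3
  obtain ⟨r, hr, hrK⟩ := Submodule.exists_sub_one_mem_and_smul_eq_zero_of_fg_of_le_smul IE K hKfg
    claim2
  have her : e r = 1 := by
    have h1 : e (r - 1) = 0 := hr
    rwa [map_sub, map_one, sub_eq_zero] at h1
  let E' := Localization.Away r
  let l : E →ₐ[R] E' := IsScalarTower.toAlgHom R E E'
  have hlu : IsUnit (l r) := IsLocalization.Away.algebraMap_isUnit (S := E') r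
  let e' : E' →+* R := IsLocalization.Away.lift (S := E') r (g := (e : E →+* R)) (by
    change IsUnit (e r)
    rw [her]
    exact isUnit_one)
  have he' : ∀ z, e' (l z) = e z := fun z => IsLocalization.Away.lift_eq (S := E') r _ z
  refine ⟨E', inferInstance, inferInstance, l.comp ib, fun a => l (x a), TPt.map l t,
    { e' with commutes' := fun c => ?_ }, ?_, ?_, ?_, ?_⟩
  · change e' (algebraMap R E' c) = _
    rw [← l.commutes c, he', e.commutes]
  · have h1 : ((l.comp ib : N.B →ₐ[R] E') : N.B →+* E') = (algebraMap E E').comp (ib : N.B →+* E) := rfl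
    rw [h1]
    apply RingHom.Etale.stableUnderComposition _ _ het
    rw [RingHom.etale_algebraMap]
    exact Algebra.Etale.of_isLocalizationAway r
  · intro b hb
    have h1 := hrK (x b) (hxK b hb)
    rw [smul_eq_mul] at h1
    have h2 := congrArg l h1
    rw [map_mul, map_zero] at h2
    exact hlu.mul_right_eq_zero.mp h2
  · rw [← Pt.map_map, hcell, cell_nat]
  · rw [← he]
    apply AlgHom.ext
    intro z
    exact he' (ib z)

end Groth.Agent.RedSub.H635.Germ
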