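import Groth.Agent.RedSub.H635.Loc
import Mathlib.Algebra.TrivSqZeroExt.Basic

/-!
# The locus where a root lies in the subgroup is cut out by an idempotent
-/

set_option autoImplicit false
universe u

namespace Groth.Agent.RedSub.H635.Loc.Nbd

open Groth.Agent.Sga3B.Cell Groth.Agent.Sga3B.Cell.Datum Groth.Agent.Sga3B
open ConjCoact Wt Loc Polynomial

variable {R A : Type u} [CommRing R] [CommRing A] [Algebra R A] [PtGrp R A]
variable {D : Datum R A} {H : Sub R A} (N : Nbd H)

/-- the ideal of linear parts along the root `a` of functions vanishing to order two on the subgroup -/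
noncomputable def aI (a : D.idx) : Ideal R where
  carrier := {r | ∃ f ∈ N.J 1, IsW D (D.root a) f ∧ lin D a f = r}
  zero_mem' := ⟨0, zero_mem _, by simp [IsW], by simp [lin]⟩
  add_mem' := by
    rintro r s ⟨f, hf, hf', rfl⟩ ⟨g, hg, hg', rfl⟩
    exact ⟨f + g, add_mem hf hg, isW_add hf' hg', lin_add _ _ _ _⟩
  smul_mem' := by
    rintro r s ⟨f, hf, hf', rfl⟩
    refine ⟨r • f, ?_, isW_smul r hf', lin_smul _ _ _ _⟩
    rw [Algebra.smul_def]
    exact Ideal.mul_mem_left _ _ hf

lemma mem_aI {a : D.idx} {r : R} : r ∈ N.aI a ↔ ∃ f ∈ N.J 1, IsW D (D.root a) f ∧ lin D a f = r :=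
  Iff.rfl

lemma lin_mem_aI (hT : ∀ {C : Type u} [CommRing C] [Algebra R C] (t : TPt D.M C),
    H.mem (D.i C t)) (a : D.idx) {f : A} (hf : f ∈ N.J 1) : lin D a f ∈ N.aI a := by
  refine ⟨(rho D f).coeff (Multiplicative.ofAdd (D.root a)), N.coeff_mem_J hT 1 hf _,
    isW_coeff f _, ?_⟩
  have h1 := sum_rho D f
  have h2 : lin D a f = ∑ m ∈ (rho D f).coeff.support, lin D a ((rho D f).coeff m) := by
    conv_lhs => rw [← h1]
    rw [Finsupp.sum, lin, map_sum, Polynomial.finsetSum_coeff]
    rfl
  rw [h2, Finset.sum_eq_single (Multiplicative.ofAdd (D.root a))]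
  · intro m _ hm
    apply lin_eq_zero D (isW_coeff f m.toAdd)
    intro h
    exact hm (congrArg Multiplicative.ofAdd h).symm
  · intro hm
    rw [Finsupp.notMem_support_iff] at hm
    rw [hm]
    simp [lin]

/-- the tangent vector of the root group with coefficients in a module -/
noncomputable def tv (a : D.idx) (P : Type u) [AddCommGroup P] [Module R P] [Module Rᵐᵒᵖ P]
    [IsCentralScalar R P] (p : P) : A →ₐ[R] TrivSqZeroExt R P where
  toFun f := (e1 R A f, lin D a f • p)
  map_one' := by
    apply TrivSqZeroExt.ext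
    · exact map_one (e1 R A)
    · change lin D a 1 • p = 0
      rw [lin, map_one, Polynomial.coeff_one]
      simp
  map_mul' f g := by
    apply TrivSqZeroExt.ext
    · exact map_mul (e1 R A) f g
    · change lin D a (f * g) • p = e1 R A f • lin D a g • p +
        MulOpposite.op (e1 R A g) • lin D a f • p
      rw [op_smul_eq_smul, lin_mul, add_smul, smul_smul, smul_smul, mul_comm (lin D a f), add_comm]
  map_zero' := by
    apply TrivSqZeroExt.ext
    · exact map_zero (e1 R A)
    · change lin D a 0 • p = 0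
      rw [lin, map_zero, Polynomial.coeff_zero, zero_smul]
  map_add' f g := by
    apply TrivSqZeroExt.ext
    · exact map_add (e1 R A) f g
    · change lin D a (f + g) • p = lin D a f • p + lin D a g • p
      rw [lin_add, add_smul]
  commutes' r := by
    apply TrivSqZeroExt.ext
    · exact (e1 R A).commutes r
    · change lin D a (algebraMap R A r) • p = 0
      rw [lin, AlgHom.commutes, Polynomial.algebraMap_apply, Polynomial.coeff_C]
      simp

lemma fst_tv (a : D.idx) (P : Type u) [AddCommGroup P] [Module R P] [Module Rᵐᵒᵖ P]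
    [IsCentralScalar R P] (p : P) (f : A) : (tv (D := D) a P p f).fst = e1 R A f := rfl

lemma snd_tv (a : D.idx) (P : Type u) [AddCommGroup P] [Module R P] [Module Rᵐᵒᵖ P]
    [IsCentralScalar R P] (p : P) (f : A) : (tv (D := D) a P p f).snd = lin D a f • p := rfl

/-- the ideal `aI a` is generated by an idempotent -/
theorem exists_idem (hG : D.Good) (hT : ∀ {C : Type u} [CommRing C] [Algebra R C] (t : TPt D.M C),
    H.mem (D.i C t)) (a : D.idx) : ∃ z ∈ N.aI a, ∀ r ∈ N.aI a, r * z = r := by
  let P : Type u := R ⧸ N.aI a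
  let p : P := Ideal.Quotient.mk _ 1
  have hsm : ∀ r : R, r • p = Ideal.Quotient.mk _ r := by
    intro r
    have h : r • p = Ideal.Quotient.mk (N.aI a) (r * 1) := rfl
    rw [h, mul_one]
  let w := tv (D := D) a P p
  have hwg : IsUnit (w N.g) := by
    rw [TrivSqZeroExt.isUnit_iff_isUnit_fst]
    exact N.e1_g
  obtain ⟨b, hb⟩ := N.exists_desc w hwg (fun f hf => by
    have hf1 := N.ker_le_J 1 hf
    apply TrivSqZeroExt.ext
    · exact N.J_le 1 hf1
    · change lin D a f • p = 0
      rw [hsm, Ideal.Quotient.eq_zero_iff_mem]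
      exact N.lin_mem_aI hT a hf1)
  let q : TrivSqZeroExt R R →ₐ[R] TrivSqZeroExt R P :=
    TrivSqZeroExt.map (Ideal.Quotient.mkₐ R (N.aI a)).toLinearMap
  have hqs : Function.Surjective q := by
    rintro ⟨r, s⟩
    obtain ⟨s, rfl⟩ := Ideal.Quotient.mk_surjective s
    refine ⟨(r, s), ?_⟩
    apply TrivSqZeroExt.ext
    · simp [q]
    · simp [q]
  have hqf : ∀ y, (q y).fst = y.fst := fun y => by simp [q]
  have hqsn : ∀ y, (q y).snd = Ideal.Quotient.mk _ y.snd := fun y => by simp [q]
  have hqn : IsNilpotent (RingHom.ker q) := by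
    refine ⟨2, ?_⟩
    have h : (RingHom.ker q) ^ 2 = (RingHom.ker q) * (RingHom.ker q) := pow_two _
    rw [h, Ideal.zero_eq_bot, eq_bot_iff, Ideal.mul_le]
    intro x hx y hy
    have hx1 : x.fst = 0 := by
      rw [← hqf, show q x = 0 from hx, TrivSqZeroExt.fst_zero]
    have hy1 : y.fst = 0 := by
      rw [← hqf, show q y = 0 from hy, TrivSqZeroExt.fst_zero]
    change x * y = 0
    apply TrivSqZeroExt.ext
    · rw [TrivSqZeroExt.fst_mul, hx1, zero_mul, TrivSqZeroExt.fst_zero]
    · rw [TrivSqZeroExt.snd_mul, hx1, hy1]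
      simp
  let b' : N.B →ₐ[R] TrivSqZeroExt R R := Algebra.FormallySmooth.liftOfSurjective b q hqs hqn
  have hb' : ∀ z, q (b' z) = b z := fun z =>
    Algebra.FormallySmooth.liftOfSurjective_apply b q hqs hqn z
  have hfst : ∀ z, (b' z).fst = N.eB z := by
    intro z
    have h1 : (TrivSqZeroExt.fstHom R R R).comp b' = N.eB := by
      apply N.hom_ext
      apply AlgHom.ext
      intro f
      change (b' (N.β f)).fst = N.eB (N.β f)
      rw [← hqf, hb', N.eB_β]
      have h2 : b (N.β f) = w f := congrArg (fun k : A →ₐ[R] _ => k f) hb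
      rw [h2]
      rfl
    exact congrArg (fun k : N.B →ₐ[R] R => k z) h1
  have hsq : ∀ z ∈ N.IB ^ 2, (b' z).snd = 0 := by
    intro z hz
    rw [pow_two] at hz
    induction hz using Submodule.mul_induction_on' with
    | mem_mul_mem x hx y hy =>
      rw [map_mul, TrivSqZeroExt.snd_mul, hfst, hfst, N.mem_IB.mp hx, N.mem_IB.mp hy]
      simp
    | add x _ y _ hx hy => rw [map_add, TrivSqZeroExt.snd_add, hx, hy, add_zero]
  obtain ⟨ω, hω, hω1, -, -⟩ := exists_omega D a
  have hlin : lin D a ω = 1 := lin_omega D hω1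
  have hI2 : ∀ f ∈ (I1 R A) ^ 2, N.β f ∈ N.IB ^ 2 := by
    intro f hf
    have h1 : I1 R A ≤ Ideal.comap N.β N.IB := by
      intro f hf
      change N.eB (N.β f) = 0
      rw [N.eB_β]
      exact hf
    have h2 := Ideal.pow_right_mono h1 2 hf
    exact Ideal.le_comap_pow _ _ h2
  set d := (b' (N.β ω)).snd with hd
  have hd1 : 1 - d ∈ N.aI a := by
    rw [← Ideal.Quotient.eq_zero_iff_mem, map_sub, sub_eq_zero, hd, ← hqsn, hb']
    have h2 : b (N.β ω) = w ω := congrArg (fun k : A →ₐ[R] _ => k ω) hb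
    rw [h2]
    change _ = lin D a ω • p
    rw [hlin, one_smul]
  have key : ∀ r ∈ N.aI a, r * d = 0 := by
    rintro r ⟨f, hf, hf', rfl⟩
    have h1 := sub_smul_mem_sq D hG hω hlin hf'
    have h2 : (b' (N.β (f - lin D a f • ω))).snd = 0 := hsq _ (hI2 _ h1)
    rw [map_sub, map_sub, TrivSqZeroExt.snd_sub, hsq _ hf, map_smul, map_smul,
      TrivSqZeroExt.snd_smul, zero_sub, neg_eq_zero] at h2
    exact h2
  refine ⟨1 - d, hd1, ?_⟩
  intro r hr
  rw [mul_sub, key r hr, mul_one, sub_zero]

section tangent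

variable {C : Type u} [CommRing C] [Algebra R C]

omit [PtGrp R A] in
lemma aeval_inr (p : R[X]) : aeval (TrivSqZeroExt.inr (1 : C) : TrivSqZeroExt C C) p =
    TrivSqZeroExt.inl (algebraMap R C (p.coeff 0)) + TrivSqZeroExt.inr (algebraMap R C (p.coeff 1)) := by
  induction p using Polynomial.induction_on' with
  | add p q hp hq =>
    rw [map_add, hp, hq, coeff_add, coeff_add, map_add, map_add, TrivSqZeroExt.inl_add,
      TrivSqZeroExt.inr_add]
    abel
  | monomial n r =>
    rw [Polynomial.aeval_monomial]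
    have h0 : algebraMap R (TrivSqZeroExt C C) r = TrivSqZeroExt.inl (algebraMap R C r) := rfl
    rw [h0]
    match n with
    | 0 => simp
    | 1 =>
      rw [pow_one, TrivSqZeroExt.inl_mul_inr]
      simp
    | n + 2 =>
      rw [Polynomial.coeff_monomial, Polynomial.coeff_monomial, if_neg (by omega),
        if_neg (by omega), pow_add, pow_two, TrivSqZeroExt.inr_mul_inr]
      simp

variable (D) in
lemma uu_inr_fst (a : D.idx) (f : A) :
    ((D.uu a (TrivSqZeroExt C C) (TrivSqZeroExt.inr 1)).hom f).fst = algebraMap R C (e1 R A f) := by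
  rw [uu_hom_apply, aeval_inr, up_coeff_zero]
  simp

variable (D) in
lemma uu_inr_snd (a : D.idx) (f : A) :
    ((D.uu a (TrivSqZeroExt C C) (TrivSqZeroExt.inr 1)).hom f).snd = algebraMap R C (lin D a f) := by
  rw [uu_hom_apply, aeval_inr]
  simp [lin]

/-- membership of the tangent vector of a root group -/
theorem mem_tangent_iff (hT : ∀ {C : Type u} [CommRing C] [Algebra R C] (t : TPt D.M C),
    H.mem (D.i C t)) (a : D.idx) :
    H.mem (D.uu a (TrivSqZeroExt C C) (TrivSqZeroExt.inr 1)) ↔
      ∀ r ∈ N.aI a, algebraMap R C r = 0 := by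
  have hu : IsUnit ((D.uu a (TrivSqZeroExt C C) (TrivSqZeroExt.inr 1)).hom N.g) := by
    rw [TrivSqZeroExt.isUnit_iff_isUnit_fst, uu_inr_fst]
    exact N.e1_g.map (algebraMap R C)
  constructor
  · intro h
    obtain ⟨b, hb⟩ := N.lift _ h hu
    have hbf : ∀ f, b (N.β f) = (D.uu a (TrivSqZeroExt C C) (TrivSqZeroExt.inr 1)).hom f :=
      fun f => congrArg (fun k : A →ₐ[R] _ => k f) hb
    have hfst : ∀ z, (b z).fst = algebraMap R C (N.eB z) := by
      intro z
      have h1 : (TrivSqZeroExt.fstHom R C C).comp b = (Algebra.ofId R C).comp N.eB := by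
        apply N.hom_ext
        apply AlgHom.ext
        intro f
        change (b (N.β f)).fst = algebraMap R C (N.eB (N.β f))
        rw [hbf, uu_inr_fst, N.eB_β]
      exact congrArg (fun k : N.B →ₐ[R] C => k z) h1
    rintro r ⟨f, hf, hf', rfl⟩
    have hsq : ∀ z ∈ N.IB ^ 2, (b z).snd = 0 := by
      intro z hz
      rw [pow_two] at hz
      induction hz using Submodule.mul_induction_on' with
      | mem_mul_mem x hx y hy =>
        rw [map_mul, TrivSqZeroExt.snd_mul, hfst, hfst, N.mem_IB.mp hx, N.mem_IB.mp hy]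
        simp
      | add x _ y _ hx hy => rw [map_add, TrivSqZeroExt.snd_add, hx, hy, add_zero]
    rw [← uu_inr_snd, ← hbf]
    exact hsq _ hf
  · intro h
    obtain ⟨b, hb⟩ := N.exists_desc (D.uu a (TrivSqZeroExt C C) (TrivSqZeroExt.inr 1)).hom hu
      (fun f hf => by
        have hf1 := N.ker_le_J 1 hf
        apply TrivSqZeroExt.ext
        · rw [uu_inr_fst, show e1 R A f = 0 from N.J_le 1 hf1, map_zero, TrivSqZeroExt.fst_zero]
        · rw [uu_inr_snd, h _ (N.lin_mem_aI hT a hf1), TrivSqZeroExt.snd_zero])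
    have h2 : D.uu a (TrivSqZeroExt C C) (TrivSqZeroExt.inr 1) = Pt.map b (Pt.mk N.β) := by
      apply Pt.ext
      intro f
      exact (congrArg (fun k : A →ₐ[R] _ => k f) hb).symm
    rw [h2]
    exact H.nat b N.mem

end tangent

end Groth.Agent.RedSub.H635.Loc.Nbd
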