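import Groth.Agent.RedSub.H635.Wt
import Mathlib.RingTheory.Smooth.Basic

/-!
# Subgroup functors with a smooth affine neighbourhood of the unit

`Sub R A` : a subgroup functor of the points of `Spec A`; `Nbd H` : `β : A → B` with `Spec B` the trace of the
subgroup on the basic open `D(g)` containing the unit section.
-/

set_option autoImplicit false
universe u

namespace Groth.Agent.RedSub.H635.Loc

open Groth.Agent.Sga3B.Cell Groth.Agent.Sga3B.Cell.Datum Groth.Agent.Sga3B
open ConjCoact Wt Polynomial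

/-- a subgroup functor -/
structure Sub (R A : Type u) [CommRing R] [CommRing A] [Algebra R A] [PtGrp R A] where
  /-- membership -/
  mem : ∀ {C : Type u} [CommRing C] [Algebra R C], Pt R A C → Prop
  one_mem : ∀ {C : Type u} [CommRing C] [Algebra R C], mem (1 : Pt R A C)
  mul_mem : ∀ {C : Type u} [CommRing C] [Algebra R C] {g h : Pt R A C}, mem g → mem h → mem (g * h)
  inv_mem : ∀ {C : Type u} [CommRing C] [Algebra R C] {g : Pt R A C}, mem g → mem g⁻¹
  nat : ∀ {B C : Type u} [CommRing B] [Algebra R B] [CommRing C] [Algebra R C] (φ : B →ₐ[R] C)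
    {g : Pt R A B}, mem g → mem (Pt.map φ g)

variable {R A : Type u} [CommRing R] [CommRing A] [Algebra R A] [PtGrp R A]

/-- a smooth affine neighbourhood of the unit in a subgroup functor -/
structure Nbd (H : Sub R A) where
  /-- its ring -/
  B : Type u
  [ring : CommRing B]
  [alg : Algebra R B]
  /-- restriction of functions -/
  β : A →ₐ[R] B
  /-- the basic open set -/
  g : A
  e1_g : IsUnit (e1 R A g)
  isUnit_g : IsUnit (β g)
  exists_eq : ∀ b : B, ∃ (f : A) (k : ℕ), β f = β g ^ k * b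
  [smooth : Algebra.FormallySmooth R B]
  mem : H.mem (Pt.mk β)
  lift : ∀ {C : Type u} [CommRing C] [Algebra R C] (γ : Pt R A C), H.mem γ → IsUnit (γ.hom g) →
    ∃ b : B →ₐ[R] C, b.comp β = γ.hom

attribute [instance] Nbd.ring Nbd.alg Nbd.smooth

namespace Nbd

variable {H : Sub R A} (N : Nbd H)
variable {C : Type u} [CommRing C] [Algebra R C]

lemma hom_ext {b b' : N.B →ₐ[R] C} (h : b.comp N.β = b'.comp N.β) : b = b' := by
  have h1 : ∀ f, b (N.β f) = b' (N.β f) := fun f => congrArg (fun k : A →ₐ[R] C => k f) h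
  refine AlgHom.ext fun z => ?_
  obtain ⟨f, k, hf⟩ := N.exists_eq z
  have h2 := h1 f
  rw [hf, map_mul, map_mul, map_pow, map_pow, h1 N.g] at h2
  exact ((N.isUnit_g.map b').pow k).mul_left_cancel h2

/-- the unit section -/
lemma exists_eB : ∃ e : N.B →ₐ[R] R, e.comp N.β = e1 R A := N.lift 1 H.one_mem N.e1_g

/-- the unit section -/
noncomputable def eB : N.B →ₐ[R] R := N.exists_eB.choose

lemma eB_comp : N.eB.comp N.β = e1 R A := N.exists_eB.choose_spec

@[simp] lemma eB_β (f : A) : N.eB (N.β f) = e1 R A f :=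
  congrArg (fun k : A →ₐ[R] R => k f) N.eB_comp

/-- the augmentation ideal -/
noncomputable def IB : Ideal N.B := RingHom.ker N.eB

lemma mem_IB {z : N.B} : z ∈ N.IB ↔ N.eB z = 0 := Iff.rfl

/-- functions vanishing to order `> n` on the subgroup -/
noncomputable def J (n : ℕ) : Ideal A := Ideal.comap N.β (N.IB ^ (n + 1))

lemma mem_J {n : ℕ} {f : A} : f ∈ N.J n ↔ N.β f ∈ N.IB ^ (n + 1) := Iff.rfl

lemma J_anti {m n : ℕ} (h : m ≤ n) : N.J n ≤ N.J m :=
  Ideal.comap_mono (Ideal.pow_le_pow_right (by omega))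

lemma J_le (n : ℕ) : N.J n ≤ I1 R A := by
  intro f hf
  have h := N.J_anti (Nat.zero_le n) hf
  rw [mem_J, zero_add, pow_one, mem_IB, eB_β] at h
  exact h

lemma ker_le_J (n : ℕ) {f : A} (hf : N.β f = 0) : f ∈ N.J n := by
  rw [mem_J, hf]
  exact zero_mem _

/-- the universal property of `β` -/
lemma exists_desc (w : A →ₐ[R] C) (hg : IsUnit (w N.g)) (hw : ∀ f, N.β f = 0 → w f = 0) :
    ∃ b : N.B →ₐ[R] C, b.comp N.β = w := by
  let A' := N.β.range
  let g' : A' := ⟨N.β N.g, N.g, rfl⟩
  have hloc : IsLocalization.Away g' N.B := by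
    refine ⟨?_, ?_, ?_⟩
    · rintro ⟨_, k, rfl⟩
      change IsUnit (algebraMap A' N.B (g' ^ k))
      rw [map_pow]
      exact N.isUnit_g.pow k
    · intro z
      obtain ⟨f, k, hf⟩ := N.exists_eq z
      refine ⟨(⟨N.β f, f, rfl⟩, ⟨g' ^ k, k, rfl⟩), ?_⟩
      change z * algebraMap A' N.B (g' ^ k) = N.β f
      rw [map_pow, hf, mul_comm]
      rfl
    · intro x y hxy
      refine ⟨1, ?_⟩
      have : x = y := Subtype.ext hxy
      rw [this]
  let w' : A' →+* C := RingHom.liftOfSurjective (N.β.rangeRestrict : A →+* A')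
    N.β.rangeRestrict_surjective ⟨(w : A →+* C), fun f hf => by
      apply hw
      exact congrArg Subtype.val hf⟩
  have hw' : ∀ f, w' ⟨N.β f, f, rfl⟩ = w f := by
    intro f
    exact RingHom.liftOfRightInverse_comp_apply _ _ _ _ f
  have hu : IsUnit (w' g') := by
    rw [hw' N.g]
    exact hg
  let b : N.B →+* C := IsLocalization.Away.lift (S := N.B) g' hu
  have hb : ∀ x : A', b x = w' x := fun x => IsLocalization.Away.lift_eq g' hu x
  have hb2 : ∀ f, b (N.β f) = w f := by
    intro f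
    rw [← hw' f, ← hb]
  refine ⟨{ b with commutes' := fun r => ?_ }, ?_⟩
  · change b (algebraMap R N.B r) = _
    rw [← N.β.commutes r, hb2, w.commutes]
  · exact AlgHom.ext hb2

end Nbd

section nilp

variable {B C : Type u} [CommRing B] [Algebra R B] [CommRing C] [Algebra R C] (D : Datum R A)

omit [PtGrp R A] in
lemma isUnit_of_sub_nilpotent {x y : B} (hy : IsUnit y) (h : IsNilpotent (x - y)) : IsUnit x := by
  have := h.isUnit_add_left_of_commute hy (Commute.all _ _)
  simpa using this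

lemma ker_mM_le (r : B →ₐ[R] C) :
    RingHom.ker (mM D r) ≤ Ideal.map (cM D B) (RingHom.ker r) := by
  intro z hz
  have h1 : ∀ m, z.coeff m ∈ RingHom.ker r := by
    intro m
    have h2 := congrArg (fun y : MA D C => y.coeff m) (show mM D r z = 0 from hz)
    simp only [coeff_mM] at h2
    exact h2
  have h3 : z = z.coeff.sum fun m b => MonoidAlgebra.single m b := by
    rw [MonoidAlgebra.sum_coeff_single]
  rw [h3]
  apply Ideal.sum_mem
  intro m _
  have h4 : MonoidAlgebra.single m (z.coeff m) =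
      cM D B (z.coeff m) * MonoidAlgebra.single m (1 : B) := by
    rw [cM_apply, MonoidAlgebra.single_mul_single]
    simp
  change MonoidAlgebra.single m (z.coeff m) ∈ _
  rw [h4]
  exact Ideal.mul_mem_right _ _ (Ideal.mem_map_of_mem _ (h1 m))

lemma ker_mM_pow (r : B →ₐ[R] C) {n : ℕ} (h : RingHom.ker r ^ n = ⊥) :
    RingHom.ker (mM D r) ^ n = ⊥ := by
  rw [eq_bot_iff]
  refine le_trans (Ideal.pow_right_mono (ker_mM_le D r) n) ?_
  rw [← Ideal.map_pow, h, Ideal.map_bot]

end nilp

namespace Nbd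

variable {D : Datum R A} {H : Sub R A} (N : Nbd H)

/-- The ideals `J n` are homogeneous. -/
theorem coeff_mem_J (hT : ∀ {C : Type u} [CommRing C] [Algebra R C] (t : TPt D.M C),
    H.mem (D.i C t)) (n : ℕ) {f : A} (hf : f ∈ N.J n) (m : Multiplicative D.M) :
    (rho D f).coeff m ∈ N.J n := by
  let Q := N.B ⧸ (N.IB ^ (n + 1))
  let q : N.B →ₐ[R] Q := Ideal.Quotient.mkₐ R _
  let r : Q →ₐ[R] R := Ideal.Quotient.liftₐ _ N.eB
    (fun a ha => N.mem_IB.mp (Ideal.pow_le_self (by omega) ha))
  have hrq : r.comp q = N.eB := AlgHom.ext fun z => rfl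
  have hr : RingHom.ker r ^ (n + 1) = ⊥ := by
    have h1 : RingHom.ker r ≤ Ideal.map q N.IB := by
      intro z hz
      obtain ⟨y, rfl⟩ := Ideal.Quotient.mk_surjective z
      exact Ideal.mem_map_of_mem q hz
    rw [eq_bot_iff]
    refine le_trans (Ideal.pow_right_mono h1 (n + 1)) ?_
    rw [← Ideal.map_pow]
    exact le_of_eq (Ideal.map_quotient_self (N.IB ^ (n + 1)))
  have hK : RingHom.ker (mM D r) ^ (n + 1) = ⊥ := ker_mM_pow D r hr
  let p : Pt R A Q := Pt.map q (Pt.mk N.β)
  have hp : H.mem p := H.nat q N.mem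
  have hop : H.mem (orb D p) := by
    unfold orb
    exact H.mul_mem (H.mul_mem (hT _) (H.nat _ hp)) (H.inv_mem (hT _))
  have hrp : Pt.map r p = 1 := by
    apply Pt.ext
    intro f
    change (r.comp q) (N.β f) = _
    rw [hrq, N.eB_β]
    rfl
  have hmo : Pt.map (mM D r) (orb D p) = 1 := by
    rw [map_orb, hrp, orb_one]
  have hu : IsUnit ((orb D p).hom N.g) := by
    refine isUnit_of_sub_nilpotent (y := algebraMap R _ (e1 R A N.g))
      (N.e1_g.map (algebraMap R (MA D Q))) ⟨n + 1, ?_⟩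
    have h1 : (orb D p).hom N.g - algebraMap R (MA D Q) (e1 R A N.g) ∈ RingHom.ker (mM D r) := by
      rw [RingHom.mem_ker, map_sub, AlgHom.commutes, sub_eq_zero, ← one_hom_apply, ← hmo]
      rfl
    have h2 := Ideal.pow_mem_pow h1 (n + 1)
    rw [hK] at h2
    exact h2
  obtain ⟨b, hb⟩ := N.lift _ hop hu
  have hb2 : (mM D r).comp b = (Algebra.ofId R (MA D R)).comp N.eB := by
    apply N.hom_ext
    rw [AlgHom.comp_assoc, hb, AlgHom.comp_assoc, N.eB_comp]
    apply AlgHom.ext
    intro f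
    change (Pt.map (mM D r) (orb D p)).hom f = _
    rw [hmo, one_hom_apply]
    rfl
  have hb3 : Ideal.map b N.IB ≤ RingHom.ker (mM D r) := by
    rw [Ideal.map_le_iff_le_comap]
    intro z hz
    have h1 := congrArg (fun k : N.B →ₐ[R] MA D R => k z) hb2
    change mM D r (b z) = algebraMap R _ (N.eB z) at h1
    rw [N.mem_IB.mp hz, map_zero] at h1
    exact h1
  have h1 : b (N.β f) = 0 := by
    have h2 : b (N.β f) ∈ RingHom.ker (mM D r) ^ (n + 1) := by
      refine Ideal.pow_right_mono hb3 (n + 1) ?_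
      rw [← Ideal.map_pow]
      exact Ideal.mem_map_of_mem b hf
    rw [hK] at h2
    exact h2
  have h2 := congrArg (fun k : A →ₐ[R] MA D Q => (k f).coeff m) hb
  change (b (N.β f)).coeff m = ((orb D p).hom f).coeff m at h2
  rw [h1, coeff_orb] at h2
  exact (Ideal.Quotient.eq_zero_iff_mem (I := N.IB ^ (n + 1))).mp h2.symm

end Nbd

end Groth.Agent.RedSub.H635.Loc
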