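import Groth.Agent.RedSub.H635.Loc
import Groth.Agent.RedSub.H642.UnitNhd
import Groth.Agent.Sga3B.ChartGood
import Mathlib.AlgebraicGeometry.PullbackCarrier

/-!
# The neighbourhood of the unit of an immersed smooth subgroup, in a chart
-/

set_option autoImplicit false
universe u

open CategoryTheory MonoidalCategory CartesianMonoidalCategory MonObj GrpObj AlgebraicGeometry Limits

namespace Groth.Agent.RedSub.H635.SchNbd

open Groth.Agent.Sga3B.Cell Groth.Agent.Sga3B.Cell.Datum Groth.Agent.Sga3B Groth.Agent.Sga3B.PinMod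
open ConjCoact Wt Loc

variable {S : Scheme.{u}} {G H : Over S} [GrpObj G] [GrpObj H] {R : Type u} [CommRing R]
  {s : Spec (CommRingCat.of R) ⟶ S} (c : Chart G s) (i : H ⟶ G) [IsMonHom i]

/-- the points of a subgroup scheme in a chart -/
def sub : Sub R c.A where
  mem {C} _ _ x := ∃ v : tB s C ⟶ H, v ≫ i = c.pts C x
  one_mem := ⟨1, by rw [map_one, MonObj.one_comp]⟩
  mul_mem := by
    rintro C _ _ g h ⟨v, hv⟩ ⟨w, hw⟩
    exact ⟨v * w, by rw [map_mul, MonObj.mul_comp, hv, hw]⟩
  inv_mem := by
    rintro C _ _ g ⟨v, hv⟩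
    exact ⟨v⁻¹, by rw [map_inv, GrpObj.inv_comp, hv]⟩
  nat := by
    rintro B C _ _ _ _ φ g ⟨v, hv⟩
    exact ⟨tMap s φ ≫ v, by rw [Category.assoc, hv, c.pts_nat]⟩

lemma mem_sub {C : Type u} [CommRing C] [Algebra R C] {x : Pt R c.A C} :
    (sub c i).mem x ↔ ∃ v : tB s C ⟶ H, v ≫ i = c.pts C x := Iff.rfl

/-- the preimage of a locally closed set in a map into the coborder is closed -/
lemma isClosed_preimage {X Y : Type*} [TopologicalSpace X] [TopologicalSpace Y] {f : X → Y}
    (hf : Continuous f) {Z : Set Y} (h : Set.range f ⊆ coborder Z) : IsClosed (f ⁻¹' Z) := by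
  have h1 : f ⁻¹' Z = f ⁻¹' (closure Z) := by
    apply Set.Subset.antisymm (Set.preimage_mono subset_closure)
    intro x hx
    have h2 := h ⟨x, rfl⟩
    rw [coborder, Set.mem_compl_iff, Set.mem_sdiff, not_and_not_right] at h2
    exact h2 hx
  rw [h1]
  exact isClosed_closure.preimage hf

theorem exists_g [IsImmersion i.left] :
    ∃ g : c.A, IsUnit (e1 R c.A g) ∧
      (PrimeSpectrum.basicOpen g : Set (PrimeSpectrum c.A)) ⊆ coborder (c.p ⁻¹' (Set.range i.left)) := by
  -- the unit section
  let E : Spec (CommRingCat.of R) ⟶ Spec (CommRingCat.of c.A) :=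
    Spec.map (CommRingCat.ofHom (e1 R c.A : c.A →+* R))
  have hE1 : IsClosedImmersion E := by
    apply IsClosedImmersion.spec_of_surjective
    intro r
    exact ⟨algebraMap R c.A r, (e1 R c.A).commutes r⟩
  have hZ : IsLocallyClosed (c.p ⁻¹' (Set.range i.left)) :=
    i.left.isLocallyClosed_range.preimage c.p.continuous
  have hsub : Set.range E ⊆ coborder (c.p ⁻¹' (Set.range i.left)) := by
    refine subset_trans ?_ subset_coborder
    rintro _ ⟨x, rfl⟩
    have h1 : E ≫ c.p = (c.pts R (1 : Pt R c.A R)).left := (c.pts_left R 1).symm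
    have h2 : c.pts R (1 : Pt R c.A R) = (1 : tB s R ⟶ H) ≫ i := by rw [map_one, MonObj.one_comp]
    rw [h2, Over.comp_left] at h1
    refine ⟨(1 : tB s R ⟶ H).left x, ?_⟩
    have h3 := congrArg (fun k : Spec (CommRingCat.of R) ⟶ G.left => k x) h1
    exact h3.symm
  obtain ⟨g, hg1, hg2⟩ := H642.UnitNhd.exists_basicOpen_spec (Set.range E)
    (coborder (c.p ⁻¹' (Set.range i.left))) E.isClosedEmbedding.isClosed_range hZ.isOpen_coborder hsub
  refine ⟨g, ?_, hg2⟩
  by_contra hg
  obtain ⟨m, hm, hgm⟩ := exists_max_ideal_of_mem_nonunits hg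
  have h1 := hg1 ⟨(⟨m, hm.isPrime⟩ : PrimeSpectrum R), rfl⟩
  exact h1 hgm

/-- **The smooth affine neighbourhood of the unit.** -/
theorem exists_nbd [IsImmersion i.left] [Smooth H.hom] :
    ∃ (N : Nbd (sub c i)) (m : tB s N.B ⟶ H), m ≫ i = c.pts N.B (Pt.mk N.β) ∧
      (IsOpenImmersion s → IsOpenImmersion m.left) := by
  obtain ⟨g, hg, hgs⟩ := exists_g c i
  let Ag : Type u := Localization.Away g
  let o : Spec (CommRingCat.of Ag) ⟶ Spec (CommRingCat.of c.A) :=
    Spec.map (CommRingCat.ofHom (algebraMap c.A Ag))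
  have ho : IsOpenImmersion o := IsOpenImmersion.of_isLocalization g
  have hrange : Set.range o = (PrimeSpectrum.basicOpen g : Set (PrimeSpectrum c.A)) :=
    PrimeSpectrum.localization_away_comap_range Ag g
  let k := pullback.snd i.left (o ≫ c.p)
  have hkc : IsClosedImmersion k := by
    refine .of_isPreimmersion _ ?_
    rw [Scheme.Pullback.range_snd]
    have h1 : (o ≫ c.p : Spec (CommRingCat.of Ag) ⟶ G.left) ⁻¹' (Set.range i.left) =
        o ⁻¹' (c.p ⁻¹' (Set.range i.left)) := rfl
    rw [h1]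
    apply isClosed_preimage o.continuous
    rw [hrange]
    exact hgs
  obtain ⟨I, e, he⟩ := IsClosedImmersion.Spec_iff.mp hkc
  let B : Type u := Ag ⧸ I
  let β : c.A →ₐ[R] B := (Ideal.Quotient.mkₐ R I).comp (IsScalarTower.toAlgHom R c.A Ag)
  have hβ : Spec.map (CommRingCat.ofHom (β : c.A →+* B)) = e.inv ≫ k ≫ o := by
    have h1 : CommRingCat.ofHom (β : c.A →+* B) = CommRingCat.ofHom (algebraMap c.A Ag) ≫
      CommRingCat.ofHom (Ideal.Quotient.mk I) := rfl
    rw [h1, Spec.map_comp, he, Category.assoc, Iso.inv_hom_id_assoc]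
  let m' : Spec (CommRingCat.of B) ⟶ H.left := e.inv ≫ pullback.fst i.left (o ≫ c.p)
  have hm' : m' ≫ i.left = Spec.map (CommRingCat.ofHom (β : c.A →+* B)) ≫ c.p := by
    rw [hβ, Category.assoc, pullback.condition, Category.assoc, Category.assoc]
  let m : tB s B ⟶ H := Over.homMk m' (by
    have h1 : (c.pts B (Pt.mk β)).left ≫ G.hom = (tB s B).hom := Over.w _
    rw [c.pts_left] at h1
    rw [← Over.w i, ← Category.assoc, hm']
    exact h1)
  have hm : m ≫ i = c.pts B (Pt.mk β) := by
    apply Over.OverMorphism.ext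
    rw [Over.comp_left, c.pts_left]
    exact hm'
  -- smoothness
  have hsm : Algebra.Smooth R B := by
    have hP : IsPullback (pullback.fst i.left c.p) (pullback.snd i.left c.p) i.left c.p :=
      IsPullback.of_hasPullback _ _
    have hP2 : IsPullback (pullback.fst i.left c.p) (pullback.snd i.left c.p ≫
        Spec.map (CommRingCat.ofHom (algebraMap R c.A))) (i.left ≫ G.hom) s :=
      hP.paste_vert c.isPullback
    rw [Over.w] at hP2
    have h1 : Smooth (pullback.snd i.left c.p ≫
        Spec.map (CommRingCat.ofHom (algebraMap R c.A))) :=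
      MorphismProperty.of_isPullback (P := @Smooth) hP2 inferInstance
    let l : pullback i.left (o ≫ c.p) ⟶ pullback i.left c.p :=
      pullback.lift (pullback.fst _ _) (k ≫ o) (by rw [pullback.condition, Category.assoc])
    have hl : IsPullback l k (pullback.snd i.left c.p) o := by
      refine IsPullback.of_right (h₁₂ := pullback.fst i.left c.p) (h₂₂ := c.p) (v₁₃ := i.left) ?_
        (pullback.lift_snd _ _ _) hP
      rw [pullback.lift_fst]
      exact IsPullback.of_hasPullback _ _
    have hl2 : IsOpenImmersion l :=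
      MorphismProperty.of_isPullback (P := @IsOpenImmersion) hl.flip inferInstance
    have h2 : Spec.map (CommRingCat.ofHom (algebraMap R B)) = e.inv ≫ l ≫
        (pullback.snd i.left c.p ≫ Spec.map (CommRingCat.ofHom (algebraMap R c.A))) := by
      have h3 : CommRingCat.ofHom (algebraMap R B) = CommRingCat.ofHom (algebraMap R c.A) ≫
        CommRingCat.ofHom (β : c.A →+* B) := by
        rw [← CommRingCat.ofHom_comp, AlgHom.comp_algebraMap]
      rw [h3, Spec.map_comp, hβ]
      have h4 : l ≫ pullback.snd i.left c.p = k ≫ o := pullback.lift_snd _ _ _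
      simp only [Category.assoc]
      rw [← Category.assoc l, h4]
      simp only [Category.assoc]
    have h5 : Smooth (Spec.map (CommRingCat.ofHom (algebraMap R B))) := by
      rw [h2]
      infer_instance
    rw [HasRingHomProperty.Spec_iff (P := @Smooth)] at h5
    exact (RingHom.smooth_algebraMap).mp h5
  have hug : IsUnit (algebraMap c.A Ag g) := IsLocalization.Away.algebraMap_isUnit (S := Ag) g
  refine ⟨{ B := B, β := β, g := g, e1_g := hg, isUnit_g := hug.map (Ideal.Quotient.mkₐ R I),
            exists_eq := ?_, smooth := hsm.1, mem := ⟨m, hm⟩, lift := ?_ }, m, hm, ?_⟩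
  · intro b
    obtain ⟨z, rfl⟩ := Ideal.Quotient.mk_surjective b
    obtain ⟨⟨f, ⟨_, n, rfl⟩⟩, hz⟩ := IsLocalization.surj (Submonoid.powers g) z
    refine ⟨f, n, ?_⟩
    change Ideal.Quotient.mk I (algebraMap c.A Ag f) = Ideal.Quotient.mk I (algebraMap c.A Ag g) ^ n *
      Ideal.Quotient.mk I z
    rw [← hz, ← map_pow, ← map_mul]
    congr 1
    change z * algebraMap c.A Ag (g ^ n) = _
    rw [map_pow, mul_comm]
  · rintro C _ _ x ⟨v, hv⟩ hx
    let x' : Ag →+* C := IsLocalization.Away.lift (S := Ag) g (g := (x.hom : c.A →+* C)) hx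
    have hx' : x'.comp (algebraMap c.A Ag) = (x.hom : c.A →+* C) := IsLocalization.Away.lift_comp g hx
    have h1 : v.left ≫ i.left = Spec.map (CommRingCat.ofHom x') ≫ o ≫ c.p := by
      have h2 := congrArg Over.Hom.left hv
      rw [Over.comp_left, c.pts_left] at h2
      rw [h2, ← Category.assoc]
      congr 1
      rw [← Spec.map_comp, ← CommRingCat.ofHom_comp, hx']
    let y : Spec (CommRingCat.of C) ⟶ pullback i.left (o ≫ c.p) :=
      pullback.lift v.left (Spec.map (CommRingCat.ofHom x')) h1
    obtain ⟨ψ, hψ⟩ := Spec.map_surjective (y ≫ e.hom)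
    have h3 : CommRingCat.ofHom (Ideal.Quotient.mk I) ≫ ψ = CommRingCat.ofHom x' := by
      apply Spec.map_injective
      rw [Spec.map_comp, hψ, Category.assoc, ← he]
      exact pullback.lift_snd _ _ _
    have h4 : ∀ f, ψ.hom (β f) = x.hom f := by
      intro f
      have h5 : ψ.hom (β f) = (CommRingCat.ofHom (Ideal.Quotient.mk I) ≫ ψ).hom
        (algebraMap c.A Ag f) := rfl
      rw [h5, h3]
      exact congrArg (fun k : c.A →+* C => k f) hx'
    refine ⟨{ ψ.hom with commutes' := fun r => ?_ }, AlgHom.ext h4⟩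
    change ψ.hom (algebraMap R B r) = _
    rw [← β.commutes, h4, AlgHom.commutes]
  · intro hs
    have hp : IsOpenImmersion c.p :=
      MorphismProperty.of_isPullback (P := @IsOpenImmersion) c.isPullback.flip hs
    change IsOpenImmersion m'
    infer_instance

end Groth.Agent.RedSub.H635.SchNbd
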