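import Groth.Agent.RedSub.H635.Loc

/-!
# Root groups whose tangent space lies in the subgroup lie in the subgroup (near the unit)
-/

set_option autoImplicit false
universe u

namespace Groth.Agent.RedSub.H635.Loc.Nbd

open Groth.Agent.Sga3B.Cell Groth.Agent.Sga3B.Cell.Datum Groth.Agent.Sga3B
open ConjCoact Wt Loc Polynomial

variable {R A : Type u} [CommRing R] [CommRing A] [Algebra R A] [PtGrp R A]

section trunc

variable (R) in
/-- truncated polynomials -/
abbrev TP (n : ℕ) : Type u := R[X] ⧸ (Ideal.span {(X : R[X]) ^ n})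

/-- class in the truncated polynomials -/
noncomputable abbrev tq (n : ℕ) : R[X] →ₐ[R] TP R n := Ideal.Quotient.mkₐ R _

lemma tq_eq_zero {n : ℕ} {p : R[X]} : tq n p = 0 ↔ X ^ n ∣ p := by
  change Ideal.Quotient.mk _ p = 0 ↔ _
  rw [Ideal.Quotient.eq_zero_iff_mem, Ideal.mem_span_singleton]

/-- the constant coefficient -/
noncomputable def tc (n : ℕ) : TP R (n + 1) →ₐ[R] R :=
  Ideal.Quotient.liftₐ _ (Polynomial.aeval (0 : R)) (fun a ha => by
    rw [Ideal.mem_span_singleton] at ha
    obtain ⟨b, rfl⟩ := ha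
    simp)

lemma tc_tq (n : ℕ) (p : R[X]) : tc n (tq (n + 1) p) = p.coeff 0 := by
  rw [Polynomial.coeff_zero_eq_aeval_zero]
  rfl

/-- reduction -/
noncomputable def tred (n : ℕ) : TP R (n + 1 + 1) →ₐ[R] TP R (n + 1) :=
  Ideal.Quotient.factorₐ R (Ideal.span_singleton_le_span_singleton.mpr
    (pow_dvd_pow X (by omega)))

lemma tred_tq (n : ℕ) (p : R[X]) : tred n (tq (n + 1 + 1) p) = tq (n + 1) p := rfl

lemma tred_surjective (n : ℕ) : Function.Surjective (tred (R := R) n) := by
  intro z
  obtain ⟨p, rfl⟩ := Ideal.Quotient.mk_surjective z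
  exact ⟨tq _ p, rfl⟩

lemma mem_ker_tc {n : ℕ} {z : TP R (n + 1)} (hz : tc n z = 0) : ∃ p : R[X], z = tq (n + 1) (X * p) := by
  obtain ⟨p, rfl⟩ := Ideal.Quotient.mk_surjective z
  have h1 : p.coeff 0 = 0 := by
    rw [← tc_tq]
    exact hz
  obtain ⟨q, rfl⟩ := Polynomial.X_dvd_iff.mpr h1
  exact ⟨q, rfl⟩

lemma mem_ker_tred {n : ℕ} {z : TP R (n + 1 + 1)} (hz : tred n z = 0) :
    ∃ p : R[X], z = tq (n + 1 + 1) (X ^ (n + 1) * p) := by
  obtain ⟨p, rfl⟩ := Ideal.Quotient.mk_surjective z
  have h1 : tq (n + 1) p = 0 := hz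
  obtain ⟨q, rfl⟩ := tq_eq_zero.mp h1
  exact ⟨q, rfl⟩

lemma ker_tred_mul {n : ℕ} {z w : TP R (n + 1 + 1)} (hz : tred n z = 0) (hw : tc (n + 1) w = 0) :
    z * w = 0 := by
  obtain ⟨p, rfl⟩ := mem_ker_tred hz
  obtain ⟨q, rfl⟩ := mem_ker_tc hw
  rw [← map_mul, tq_eq_zero]
  exact ⟨p * q, by ring⟩

lemma tc_tred (n : ℕ) (z : TP R (n + 1 + 1)) : tc n (tred n z) = tc (n + 1) z := by
  obtain ⟨p, rfl⟩ := Ideal.Quotient.mk_surjective z
  change tc n (tred n (tq (n + 1 + 1) p)) = tc (n + 1) (tq (n + 1 + 1) p)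
  rw [tred_tq, tc_tq, tc_tq]

lemma isNilpotent_ker_tred (n : ℕ) : IsNilpotent (RingHom.ker (tred (R := R) n)) := by
  refine ⟨2, ?_⟩
  rw [Ideal.zero_eq_bot, eq_bot_iff]
  have h : (RingHom.ker (tred (R := R) n)) ^ 2 =
    (RingHom.ker (tred (R := R) n)) * (RingHom.ker (tred (R := R) n)) := pow_two _
  rw [h, Ideal.mul_le]
  intro z hz w hw
  refine ker_tred_mul hz ?_
  rw [← tc_tred, show tred n w = 0 from hw, map_zero]

lemma ker_tc_pow (n : ℕ) : RingHom.ker (tc (R := R) n) ^ (n + 1) = ⊥ := by
  have h1 : RingHom.ker (tc (R := R) n) ≤ Ideal.span {tq (n + 1) X} := by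
    intro z hz
    obtain ⟨p, rfl⟩ := mem_ker_tc hz
    rw [map_mul]
    exact Ideal.mul_mem_right _ _ (Ideal.mem_span_singleton_self _)
  rw [eq_bot_iff]
  refine le_trans (Ideal.pow_right_mono h1 (n + 1)) ?_
  rw [Ideal.span_singleton_pow, ← map_pow, tq_eq_zero.mpr dvd_rfl]
  simp

end trunc

variable {D : Datum R A} {H : Sub R A} (N : Nbd H)

lemma map_IB_le {n : ℕ} (b : N.B →ₐ[R] TP R (n + 1)) (hb : (tc n).comp b = N.eB) {z : N.B}
    (k : ℕ) (hz : z ∈ N.IB ^ k) : b z ∈ RingHom.ker (tc (R := R) n) ^ k := by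
  have h1 : Ideal.map b N.IB ≤ RingHom.ker (tc (R := R) n) := by
    rw [Ideal.map_le_iff_le_comap]
    intro z hz
    have h2 := congrArg (fun k : N.B →ₐ[R] R => k z) hb
    exact h2.trans hz
  refine Ideal.pow_right_mono h1 k ?_
  rw [← Ideal.map_pow]
  exact Ideal.mem_map_of_mem b hz

/-- The formal version: functions vanishing to order `> n` on the subgroup vanish to order `> n` on the
root group, if this is so for `n = 1` and functions of weight `root a`. -/
theorem X_pow_dvd_up (hG : D.Good) (hT : ∀ {C : Type u} [CommRing C] [Algebra R C] (t : TPt D.M C),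
    H.mem (D.i C t)) (a : D.idx) (hred : ∀ (b : D.idx) (k : ℕ), 2 ≤ k → k • D.root a ≠ D.root b)
    (h1 : ∀ f ∈ N.J 1, IsW D (D.root a) f → lin D a f = 0) (n : ℕ) :
    ∀ f ∈ N.J n, X ^ (n + 1) ∣ up D a f := by
  induction n with
  | zero =>
    intro f hf
    rw [zero_add, pow_one, Polynomial.X_dvd_iff, up_coeff_zero]
    exact N.J_le 0 hf
  | succ n ih =>
    -- the point of order `n`
    let w : A →ₐ[R] TP R (n + 1) := (tq (n + 1)).comp (up D a)
    have hwg : IsUnit (w N.g) := by
      refine isUnit_of_sub_nilpotent (y := algebraMap R _ (e1 R A N.g))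
        (N.e1_g.map (algebraMap R (TP R (n + 1)))) ⟨n + 1, ?_⟩
      have h2 : w N.g - algebraMap R _ (e1 R A N.g) ∈ RingHom.ker (tc (R := R) n) := by
        rw [RingHom.mem_ker, map_sub, AlgHom.commutes, sub_eq_zero]
        change tc n (tq (n + 1) (up D a N.g)) = _
        rw [tc_tq, up_coeff_zero]
        rfl
      have h3 := Ideal.pow_mem_pow h2 (n + 1)
      rw [ker_tc_pow] at h3
      exact h3
    obtain ⟨v, hv⟩ := N.exists_desc w hwg (fun f hf => tq_eq_zero.mpr (ih f (N.ker_le_J n hf)))
    -- its lift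
    let v' : N.B →ₐ[R] TP R (n + 1 + 1) :=
      Algebra.FormallySmooth.liftOfSurjective v (tred n) (tred_surjective n) (isNilpotent_ker_tred n)
    have hv' : ∀ z, tred n (v' z) = v z := fun z =>
      Algebra.FormallySmooth.liftOfSurjective_apply v (tred n) (tred_surjective n)
        (isNilpotent_ker_tred n) z
    have hvβ : ∀ f, v (N.β f) = w f := fun f => congrArg (fun k : A →ₐ[R] _ => k f) hv
    have hc : (tc (n + 1)).comp v' = N.eB := by
      apply N.hom_ext
      apply AlgHom.ext
      intro f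
      change tc (n + 1) (v' (N.β f)) = N.eB (N.β f)
      rw [← tc_tred, hv', hvβ, N.eB_β]
      change tc n (tq (n + 1) (up D a f)) = _
      rw [tc_tq, up_coeff_zero]
    have hc2 : ∀ f, tc (n + 1) (v' (N.β f)) = e1 R A f := fun f => by
      rw [← N.eB_β]
      exact congrArg (fun k : N.B →ₐ[R] R => k (N.β f)) hc
    have hJ0 : ∀ f ∈ N.J (n + 1), v' (N.β f) = 0 := by
      intro f hf
      have h2 := N.map_IB_le v' hc (n + 1 + 1) hf
      rw [ker_tc_pow] at h2
      exact h2
    -- comparison with the root homomorphism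
    let d : A → TP R (n + 1 + 1) := fun f => tq (n + 1 + 1) (up D a f) - v' (N.β f)
    have hd : ∀ f, tred n (d f) = 0 := by
      intro f
      change tred n (tq (n + 1 + 1) (up D a f) - v' (N.β f)) = 0
      rw [map_sub, hv', hvβ, tred_tq, sub_eq_zero]
      rfl
    have hd2 : ∀ f ∈ (I1 R A) ^ 2, d f = 0 := by
      intro f hf
      rw [pow_two] at hf
      induction hf using Submodule.mul_induction_on' with
      | mem_mul_mem x hx y hy =>
        have h2 : d (x * y) = d x * tq (n + 1 + 1) (up D a y) + d y * v' (N.β x) := by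
          simp only [d, map_mul]
          ring
        rw [h2, ker_tred_mul (hd x), ker_tred_mul (hd y), add_zero]
        · rw [hc2]; exact hx
        · rw [tc_tq, up_coeff_zero]; exact hy
      | add x _ y _ hx hy =>
        have h2 : d (x + y) = d x + d y := by
          simp only [d, map_add]
          ring
        rw [h2, hx, hy, add_zero]
    -- homogeneous functions
    have hhom : ∀ f ∈ N.J (n + 1), ∀ m, IsW D m f → X ^ (n + 1 + 1) ∣ up D a f := by
      intro f hf m hm
      by_cases hm0 : m = 0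
      · subst hm0
        have h2 : up D a f = 0 := by
          ext k
          by_cases hk : k = 0
          · subst hk
            rw [up_coeff_zero, Polynomial.coeff_zero]
            exact N.J_le _ hf
          · rw [coeff_up_eq_zero D hm a k, Polynomial.coeff_zero]
            intro h3
            have h4 : (k : ℤ) • D.root a = 0 := by
              rw [natCast_zsmul, ← h3]
            rcases smul_eq_zero.mp h4 with h5 | h5
            · omega
            · exact D.root_ne a h5
        rw [h2]
        exact dvd_zero _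
      · by_cases hmr : ∃ b, D.root b = m
        · obtain ⟨b, rfl⟩ := hmr
          have h2 : up D a f = 0 := by
            ext k
            rw [Polynomial.coeff_zero]
            by_cases hk : D.root b = k • D.root a
            · by_cases hk2 : 2 ≤ k
              · exact absurd hk.symm (hred b k hk2)
              · have hk3 : k = 0 ∨ k = 1 := by omega
                rcases hk3 with rfl | rfl
                · rw [zero_smul] at hk
                  exact absurd hk (D.root_ne b)
                · rw [one_smul] at hk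
                  rw [hk] at hm
                  exact h1 f (N.J_anti (by omega) hf) hm
            · exact coeff_up_eq_zero D hm a k hk
          rw [h2]
          exact dvd_zero _
        · have h2 : f ∈ (I1 R A) ^ 2 := by
            apply mem_sq_of_lin D hG hm0 hm
            intro b hb
            exact absurd ⟨b, hb⟩ hmr
          rw [← tq_eq_zero]
          have h3 := hd2 f h2
          simp only [d] at h3
          rw [hJ0 f hf, sub_zero] at h3
          exact h3
    intro f hf
    have h2 := sum_rho D f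
    rw [← h2, Finsupp.sum, map_sum]
    apply Finset.dvd_sum
    intro m _
    exact hhom _ (N.coeff_mem_J hT (n + 1) hf m) m.toAdd (isW_coeff f m.toAdd)

/-- functions vanishing on the subgroup vanish on the root group -/
theorem up_eq_zero (hG : D.Good) (hT : ∀ {C : Type u} [CommRing C] [Algebra R C] (t : TPt D.M C),
    H.mem (D.i C t)) (a : D.idx) (hred : ∀ (b : D.idx) (k : ℕ), 2 ≤ k → k • D.root a ≠ D.root b)
    (h1 : ∀ f ∈ N.J 1, IsW D (D.root a) f → lin D a f = 0) {f : A} (hf : N.β f = 0) :
    up D a f = 0 := by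
  have h2 := N.X_pow_dvd_up hG hT a hred h1 (up D a f).natDegree f (N.ker_le_J _ hf)
  ext k
  rw [Polynomial.X_pow_dvd_iff] at h2
  by_cases hk : k < (up D a f).natDegree + 1
  · exact h2 k hk
  · exact Polynomial.coeff_eq_zero_of_natDegree_lt (by omega)

/-- **The root group lies in the subgroup near the unit.** -/
theorem mem_uu (hG : D.Good) (hT : ∀ {C : Type u} [CommRing C] [Algebra R C] (t : TPt D.M C),
    H.mem (D.i C t)) (a : D.idx) (hred : ∀ (b : D.idx) (k : ℕ), 2 ≤ k → k • D.root a ≠ D.root b)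
    (h1 : ∀ f ∈ N.J 1, IsW D (D.root a) f → lin D a f = 0)
    {C : Type u} [CommRing C] [Algebra R C] (x : C) (hx : IsUnit (aeval x (up D a N.g))) :
    H.mem (D.uu a C x) := by
  obtain ⟨b, hb⟩ := N.exists_desc ((aeval x).comp (up D a)) hx (fun f hf => by
    rw [AlgHom.comp_apply, N.up_eq_zero hG hT a hred h1 hf, map_zero])
  have h2 : D.uu a C x = Pt.map b (Pt.mk N.β) := by
    apply Pt.ext
    intro f
    rw [uu_hom_apply]
    exact (congrArg (fun k : A →ₐ[R] C => k f) hb).symm
  rw [h2]
  exact H.nat b N.mem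

end Groth.Agent.RedSub.H635.Loc.Nbd
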