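import Groth.Agent.RedSub.H635.Germ
import Groth.Agent.RedSub.H635.Tr2
import Groth.Agent.RedSub.H635.SchNbd
import Groth.Agent.RedSub.H635.GaSm
import Groth.Agent.RedSub.H641.Germ
import Groth.Agent.RedSub.H636.ConnFib
import Groth.Agent.Sga3B.SplitRedField415

/-!
# Uniqueness of subgroups of type (R) containing the torus of a splitting
-/

set_option autoImplicit false
universe u

open CategoryTheory MonoidalCategory CartesianMonoidalCategory MonObj GrpObj AlgebraicGeometry Limits

namespace Groth.Agent.RedSub.H635.Uniq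

open Groth.Agent.Sga3B.Cell Groth.Agent.Sga3B.Cell.Datum Groth.Agent.Sga3B Groth.Agent.Sga3B.PinMod
open DSPts GaPts ConjCoact Wt Loc SchNbd

/-- A homomorphism which factors through a subgroup on a family of flat germs meeting every fibre factors
through the subgroup. -/
theorem exists_lift_of_local_germs {S : Scheme.{u}} {X G H : Over S} [GrpObj X] [GrpObj G] [GrpObj H]
    (f : X ⟶ G) [IsMonHom f] (i : H ⟶ G) [IsMonHom i] [Mono i] [Smooth X.hom]
    (hX : _root_.RedSub.HasConnectedFibres X) {ξ : Type u} (W : ξ → Over S) (q : ∀ j, W j ⟶ X)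
    (hq : ∀ j, Flat (q j).left) (hq' : ∀ j, LocallyOfFinitePresentation (q j).left)
    (hW : ∀ s : S, ∃ j, ∃ z : (W j).left, (W j).hom z = s) (r : ∀ j, W j ⟶ H)
    (hr : ∀ j, q j ≫ f = r j ≫ i) : ∃ v : X ⟶ H, v ≫ i = f := by
  let Y : Over S := Over.mk (Sigma.desc fun j => (W j).hom)
  let Q : Y ⟶ X := Over.homMk (Sigma.desc fun j => (q j).left) (by
    apply Sigma.hom_ext
    intro j
    simp [Y])
  let P : Y ⟶ H := Over.homMk (Sigma.desc fun j => (r j).left) (by
    apply Sigma.hom_ext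
    intro j
    simp [Y])
  have hQ1 : Flat Q.left := IsZariskiLocalAtSource.sigmaDesc hq
  have hQ2 : LocallyOfFinitePresentation Q.left := IsZariskiLocalAtSource.sigmaDesc hq'
  refine H641.Germ.exists_lift_of_flat_germ f i hX Y Q ?_ P ?_
  · intro s
    obtain ⟨j, z, hz⟩ := hW s
    refine ⟨(Sigma.ι (fun j => (W j).left) j) z, ?_⟩
    have h1 : Sigma.ι (fun j => (W j).left) j ≫ Y.hom = (W j).hom := by simp [Y]
    rw [← hz, ← h1]
    rfl
  · apply Over.OverMorphism.ext
    apply Sigma.hom_ext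
    intro j
    have h1 := congrArg Over.Hom.left (hr j)
    simpa [Q, P] using h1

variable {S : Scheme.{u}} {G H : Over S} [GrpObj G] [GrpObj H] (D : Red.SplitRed G) (i : H ⟶ G) [IsMonHom i]

/-- the tangent vector of `u_a` over `K[ε]` lies in `H` -/
def Tg (a : D.idx) (K : Type u) [Field K] (x : Spec (CommRingCat.of K) ⟶ S) : Prop :=
  ∃ v : tB x (TrivSqZeroExt K K) ⟶ H, v ≫ i =
    gaPt (tB x (TrivSqZeroExt K K)) (fnOf x (TrivSqZeroExt.inr 1)) ≫ D.u a

omit [IsMonHom i] [GrpObj H] [GrpObj G] in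
lemma ex_congr {Z : Scheme.{u}} {w w' : Z ⟶ S} (hw : w = w') (x : Γ(Z, ⊤)) (y : Red.Ga S ⟶ G) :
    (∃ v : Over.mk w ⟶ H, v ≫ i = gaPt (Over.mk w) x ≫ y) ↔
      ∃ v : Over.mk w' ⟶ H, v ≫ i = gaPt (Over.mk w') x ≫ y := by
  subst hw
  exact Iff.rfl

lemma algebraMap_tsz (R K : Type u) [CommRing R] [Field K] [Algebra R K] :
    algebraMap R (TrivSqZeroExt K K) = (algebraMap K (TrivSqZeroExt K K)).comp (algebraMap R K) :=
  RingHom.ext fun _ => TrivSqZeroExt.ext rfl rfl

lemma tg_iff {R : Type u} [CommRing R] {s : Spec (CommRingCat.of R) ⟶ S} (c : Chart G s)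
    (a : D.idx) (K : Type u) [Field K] [Algebra R K] :
    Tg D i a K (Spec.map (CommRingCat.ofHom (algebraMap R K)) ≫ s) ↔
      (sub c i).mem ((c.datum D).uu a (TrivSqZeroExt K K) (TrivSqZeroExt.inr 1)) := by
  rw [mem_sub, c.pts_uu]
  refine ex_congr i (w := Spec.map (CommRingCat.ofHom (algebraMap K (TrivSqZeroExt K K))) ≫
    Spec.map (CommRingCat.ofHom (algebraMap R K)) ≫ s)
    (w' := Spec.map (CommRingCat.ofHom (algebraMap R (TrivSqZeroExt K K))) ≫ s) ?_ _ _
  rw [← Category.assoc, ← Spec.map_comp, ← CommRingCat.ofHom_comp, algebraMap_tsz R K]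

/-- the points of the base at which `u_a` is tangent to `H` -/
def E (a : D.idx) : Set S := {σ | ∃ (K : Type u) (_ : Field K) (x : Spec (CommRingCat.of K) ⟶ S),
  (∃ p, x p = σ) ∧ Tg D i a K x}

omit [GrpObj H] [IsMonHom i] in
lemma mem_E_of_lift (a : D.idx) (h : ∃ v : Red.Ga S ⟶ H, v ≫ i = D.u a) (σ : S) : σ ∈ E D i a := by
  obtain ⟨v, hv⟩ := h
  refine ⟨S.residueField σ, inferInstance, S.fromSpecResidueField σ,
    ⟨(⊥ : PrimeSpectrum (S.residueField σ)), ?_⟩, ?_⟩
  · exact Scheme.fromSpecResidueField_apply _ _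
  · exact ⟨gaPt _ _ ≫ v, by rw [Category.assoc, hv]⟩

lemma hT_sub {R : Type u} [CommRing R] {s : Spec (CommRingCat.of R) ⟶ S} (c : Chart G s)
    (t : D.T ⟶ H) (ht : t ≫ i = D.i) {C : Type u} [CommRing C] [Algebra R C]
    (y : TPt D.M C) : (sub c i).mem ((c.datum D).i C y) := by
  rw [mem_sub, c.pts_i]
  exact ⟨dsEquiv _ D.M (chΓ s y) ≫ Chart.splitInv D ≫ t, by
    rw [Category.assoc, Category.assoc, ht, Chart.j_eq]⟩

lemma mem_E_iff {R : Type u} [CommRing R] {s : Spec (CommRingCat.of R) ⟶ S} [IsOpenImmersion s]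
    (c : Chart G s) (N : Nbd (sub c i)) (t : D.T ⟶ H) (ht : t ≫ i = D.i) (a : D.idx)
    (p : Spec (CommRingCat.of R)) : s p ∈ E D i a ↔ N.aI (D := c.datum D) a ≤ p.asIdeal := by
  have hT : ∀ {C : Type u} [CommRing C] [Algebra R C] (y : TPt (c.datum D).M C),
      (sub c i).mem ((c.datum D).i C y) := fun y => hT_sub D i c t ht y
  constructor
  · rintro ⟨K, _, x, ⟨q, hq⟩, hx⟩
    have hrange : Set.range x ⊆ Set.range s := by
      rintro _ ⟨q', rfl⟩
      have h1 : q' = q := Subsingleton.elim (α := PrimeSpectrum K) _ _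
      rw [h1, hq]
      exact ⟨p, rfl⟩
    let y := IsOpenImmersion.lift s x hrange
    have hy : y ≫ s = x := IsOpenImmersion.lift_fac s x hrange
    obtain ⟨φ, hφ⟩ := Spec.map_surjective y
    let _ : Algebra R K := φ.hom.toAlgebra
    have hφ' : Spec.map (CommRingCat.ofHom (algebraMap R K)) = y := hφ
    rw [← hy, ← hφ', tg_iff D i c, N.mem_tangent_iff hT] at hx
    intro r hr
    have h1 : y q = p := by
      apply s.isOpenEmbedding.injective
      rw [← hq, ← hy]
      rfl
    rw [← h1, ← hφ']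
    change algebraMap R K r ∈ q.asIdeal
    rw [hx r hr]
    exact zero_mem _
  · intro h
    let K := p.asIdeal.ResidueField
    refine ⟨K, inferInstance, Spec.map (CommRingCat.ofHom (algebraMap R K)) ≫ s,
      ⟨(⊥ : PrimeSpectrum K), ?_⟩, ?_⟩
    · change s (Spec.map (CommRingCat.ofHom (algebraMap R K)) (⊥ : PrimeSpectrum K)) = s p
      congr 1
      apply PrimeSpectrum.ext
      change Ideal.comap (algebraMap R K) ⊥ = p.asIdeal
      ext r
      rw [Ideal.mem_comap, Ideal.mem_bot, Ideal.algebraMap_residueField_eq_zero]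
    · rw [tg_iff D i c, N.mem_tangent_iff hT]
      intro r hr
      rw [Ideal.algebraMap_residueField_eq_zero]
      exact h hr

include D in
lemma exists_chart_nbd [IsImmersion i.left] [Smooth H.hom] {R : Type u} [CommRing R]
    (s : Spec (CommRingCat.of R) ⟶ S) : ∃ (c : Chart G s) (N : Nbd (sub c i)) (m : tB s N.B ⟶ H),
      m ≫ i = c.pts N.B (Pt.mk N.β) ∧ (IsOpenImmersion s → IsOpenImmersion m.left) := by
  have := D.reductive.1
  obtain ⟨c⟩ := exists_chart G s
  obtain ⟨N, m, h1, h2⟩ := exists_nbd c i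
  exact ⟨c, N, m, h1, h2⟩

/-- the root `a` is tangent to the subgroup at a point of a chart iff an idempotent vanishes there -/
lemma exists_idem_E [IsImmersion i.left] [Smooth H.hom] (t : D.T ⟶ H) (ht : t ≫ i = D.i) (a : D.idx)
    {R : Type u} [CommRing R] (s : Spec (CommRingCat.of R) ⟶ S) [IsOpenImmersion s] :
    ∃ z : R, z * z = z ∧ ∀ p : Spec (CommRingCat.of R), s p ∈ E D i a ↔ z ∈ p.asIdeal := by
  obtain ⟨c, N, -, -⟩ := exists_chart_nbd D i s
  have hT : ∀ {C : Type u} [CommRing C] [Algebra R C] (y : TPt (c.datum D).M C),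
      (sub c i).mem ((c.datum D).i C y) := fun y => hT_sub D i c t ht y
  obtain ⟨z, hz, hz'⟩ := N.exists_idem (c.good D) hT a
  refine ⟨z, hz' z hz, ?_⟩
  intro p
  rw [mem_E_iff D i c N t ht a p]
  constructor
  · intro h
    exact h hz
  · intro h r hr
    rw [← hz' r hr]
    exact Ideal.mul_mem_left _ _ h

theorem isClopen_E [IsImmersion i.left] [Smooth H.hom] (t : D.T ⟶ H) (ht : t ≫ i = D.i) (a : D.idx) :
    IsClopen (E D i a) := by
  have key : ∀ (Q : Bool), IsOpen {σ : S | (σ ∈ E D i a) ↔ Q = true} := by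
    intro Q
    rw [isOpen_iff_forall_mem_open]
    intro σ hσ
    let c := S.affineOpenCover
    obtain ⟨j, p, hp⟩ := c.openCover.exists_eq σ
    let s : Spec (CommRingCat.of (c.X j)) ⟶ S := c.f j
    have hs : IsOpenImmersion s := inferInstanceAs (IsOpenImmersion (c.f j))
    change s p = σ at hp
    obtain ⟨z, hz, hz'⟩ := exists_idem_E D i t ht a s
    have hzp : ∀ q : PrimeSpectrum (c.X j), z ∈ q.asIdeal ↔ 1 - z ∉ q.asIdeal := by
      intro q
      constructor
      · intro h1 h2
        apply q.2.ne_top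
        rw [Ideal.eq_top_iff_one]
        have := add_mem h1 h2
        rwa [add_sub_cancel] at this
      · intro h
        have h1 : z * (1 - z) ∈ q.asIdeal := by
          rw [mul_sub, _root_.mul_one, hz, sub_self]
          exact zero_mem _
        rcases q.2.mem_or_mem h1 with h2 | h2
        · exact h2
        · exact absurd h2 h
    rcases Q with _ | _
    · refine ⟨s '' (PrimeSpectrum.basicOpen z : Set (PrimeSpectrum (c.X j))), ?_, ?_, ?_⟩
      · rintro _ ⟨q, hq, rfl⟩
        change (s q ∈ E D i a) ↔ _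
        rw [hz' q]
        simp only [Bool.false_eq_true, iff_false]
        exact hq
      · exact s.isOpenEmbedding.isOpenMap _ (PrimeSpectrum.basicOpen z).isOpen
      · refine ⟨p, ?_, hp⟩
        rw [← hp] at hσ
        change (s p ∈ E D i a) ↔ _ at hσ
        rw [hz' p] at hσ
        simp only [Bool.false_eq_true, iff_false] at hσ
        exact hσ
    · refine ⟨s '' (PrimeSpectrum.basicOpen (1 - z) : Set (PrimeSpectrum (c.X j))), ?_, ?_, ?_⟩
      · rintro _ ⟨q, hq, rfl⟩
        change (s q ∈ E D i a) ↔ _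
        rw [hz' q, hzp q]
        simp only [iff_true]
        exact hq
      · exact s.isOpenEmbedding.isOpenMap _ (PrimeSpectrum.basicOpen (1 - z)).isOpen
      · refine ⟨p, ?_, hp⟩
        rw [← hp] at hσ
        change (s p ∈ E D i a) ↔ _ at hσ
        rw [hz' p, hzp p] at hσ
        simp only [iff_true] at hσ
        exact hσ
  constructor
  · rw [← isOpen_compl_iff]
    convert key false using 1
    ext σ
    simp
  · convert key true using 1
    ext σ
    simp

/-! ### root groups -/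

lemma aI_eq_bot_of_E [IsImmersion i.left] [Smooth H.hom] (t : D.T ⟶ H) (ht : t ≫ i = D.i) (a : D.idx)
    (hE : E D i a = Set.univ) {R : Type u} [CommRing R] (s : Spec (CommRingCat.of R) ⟶ S)
    [IsOpenImmersion s] (c : Chart G s) (N : Nbd (sub c i)) : N.aI (D := c.datum D) a = ⊥ := by
  have hT : ∀ {C : Type u} [CommRing C] [Algebra R C] (y : TPt (c.datum D).M C),
      (sub c i).mem ((c.datum D).i C y) := fun y => hT_sub D i c t ht y
  obtain ⟨z, hz, hz'⟩ := N.exists_idem (c.good D) hT a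
  have h1 : ∀ p : Spec (CommRingCat.of R), z ∈ p.asIdeal := by
    intro p
    exact (mem_E_iff D i c N t ht a p).mp (by rw [hE]; trivial) hz
  have h2 : IsNilpotent z := by
    rw [← mem_nilradical, nilradical_eq_sInf, Ideal.mem_sInf]
    intro I hI
    exact h1 ⟨I, hI⟩
  have h3 : z = 0 := by
    obtain ⟨n, hn⟩ := h2
    have h4 : ∀ n : ℕ, z = z * z ^ n := by
      intro n
      induction n with
      | zero => rw [pow_zero, _root_.mul_one]
      | succ n ih => rw [pow_succ, ← _root_.mul_assoc, ← ih, hz' z hz]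
    rw [h4 n, hn, mul_zero]
  rw [eq_bot_iff]
  intro r hr
  rw [← hz' r hr, h3, mul_zero]
  exact zero_mem _

lemma one_mem_aI_of_E [IsImmersion i.left] [Smooth H.hom] (t : D.T ⟶ H) (ht : t ≫ i = D.i) (a : D.idx)
    (hE : E D i a = ∅) {R : Type u} [CommRing R] (s : Spec (CommRingCat.of R) ⟶ S)
    [IsOpenImmersion s] (c : Chart G s) (N : Nbd (sub c i)) : 1 ∈ N.aI (D := c.datum D) a := by
  by_contra h
  obtain ⟨m, hm, hle⟩ := Ideal.exists_le_maximal _ ((Ideal.ne_top_iff_one _).mpr h)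
  have h1 := (mem_E_iff D i c N t ht a ⟨m, hm.isPrime⟩).mpr hle
  rw [hE] at h1
  exact h1

lemma red_chart [Nonempty S] (a : D.idx) {R : Type u} [CommRing R] (s : Spec (CommRingCat.of R) ⟶ S)
    (c : Chart G s) (b : (c.datum D).idx) (k : ℕ) (hk : 2 ≤ k) :
    k • (c.datum D).root a ≠ (c.datum D).root b := by
  have hred : D.P.IsReduced := SplitReduced415.isReduced D
  have : Module.IsReflexive ℤ D.M := .of_isPerfPair D.P.toLinearMap
  have : IsAddTorsionFree D.M := .of_isTorsionFree ℤ D.M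
  have : k.AtLeastTwo := ⟨hk⟩
  intro h
  exact D.P.nsmul_notMem_range_root (n := k) (i := a) ⟨b, h.symm⟩

/-- **TR2.** If the root `a` is tangent to the subgroup everywhere, the root group lies in the subgroup. -/
theorem exists_lift_u [Nonempty S] [IsImmersion i.left] [Smooth H.hom] (t : D.T ⟶ H)
    (ht : t ≫ i = D.i) (a : D.idx) (hE : E D i a = Set.univ) : ∃ v : Red.Ga S ⟶ H, v ≫ i = D.u a := by
  have hmono : Mono i := Over.mono_of_mono_left i
  have hsmooth : Smooth (Red.Ga S).hom := GaSm.smooth_ga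
  let c := S.affineOpenCover
  let s : ∀ j : c.I₀, Spec (CommRingCat.of (c.X j)) ⟶ S := fun j => c.f j
  have hs : ∀ j, IsOpenImmersion (s j) := fun j => inferInstanceAs (IsOpenImmersion (c.f j))
  have hch := fun j : c.I₀ => exists_chart_nbd D i (s j)
  choose ch N m hm hm' using hch
  let P : ∀ j : c.I₀, Polynomial (c.X j) := fun j => up ((ch j).datum D) a (N j).g
  let C : ∀ j : c.I₀, Type u := fun j => Localization.Away (P j)
  let x : ∀ j : c.I₀, C j := fun j => algebraMap (Polynomial (c.X j)) (C j) Polynomial.X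
  have hx : ∀ j, IsUnit (Polynomial.aeval (x j) (P j)) := by
    intro j
    have h1 : Polynomial.aeval (x j) (P j) = algebraMap (Polynomial (c.X j)) (C j) (P j) := by
      have h2 : (Polynomial.aeval (x j) : Polynomial (c.X j) →ₐ[c.X j] C j) =
          IsScalarTower.toAlgHom (c.X j) (Polynomial (c.X j)) (C j) := by
        apply Polynomial.algHom_ext
        simp [x]
      exact congrArg (fun k : Polynomial (c.X j) →ₐ[c.X j] C j => k (P j)) h2
    rw [h1]
    exact IsLocalization.Away.algebraMap_isUnit (S := C j) (P j)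
  have hmem : ∀ j, (sub (ch j) i).mem (((ch j).datum D).uu a (C j) (x j)) := by
    intro j
    refine (N j).mem_uu ((ch j).good D) (fun y => hT_sub D i (ch j) t ht y) a
      (red_chart D a (s j) (ch j)) ?_ (x j) (hx j)
    intro f hf hf'
    have h1 := aI_eq_bot_of_E D i t ht a hE (s j) (ch j) (N j)
    have h2 : lin ((ch j).datum D) a f ∈ (N j).aI (D := (ch j).datum D) a := ⟨f, hf, hf', rfl⟩
    rw [h1] at h2
    exact h2
  choose r hr using hmem
  let q : ∀ j, tB (s j) (C j) ⟶ Red.Ga S := fun j => gaPt (tB (s j) (C j)) (fnOf (s j) (x j))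
  have hq : ∀ j, IsOpenImmersion (q j).left := by
    intro j
    have h1 : q j = tMap (s j) (IsScalarTower.toAlgHom (c.X j) (Polynomial (c.X j)) (C j)) ≫
        gaPt (tB (s j) (Polynomial (c.X j))) (fnOf (s j) Polynomial.X) := by
      rw [tMap_gaPt]
      rfl
    have h2 : IsOpenImmersion (gaPt (tB (s j) (Polynomial (c.X j))) (fnOf (s j) Polynomial.X)).left :=
      MorphismProperty.of_isPullback (P := @IsOpenImmersion) (isPullback_ga (s j)).flip (hs j)
    have h3 : IsOpenImmersion (tMap (s j)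
        (IsScalarTower.toAlgHom (c.X j) (Polynomial (c.X j)) (C j))).left :=
      IsOpenImmersion.of_isLocalization (P j)
    rw [h1, Over.comp_left]
    infer_instance
  refine exists_lift_of_local_germs (D.u a) i H636.ConnFib.hasConnectedFibres_Ga
    (fun j => tB (s j) (C j)) q (fun j => ?_) (fun j => ?_) ?_ r ?_
  · have := hq j
    infer_instance
  · have := hq j
    infer_instance
  · intro σ
    obtain ⟨j, p, hp⟩ := c.openCover.exists_eq σ
    let j' : c.I₀ := j
    have hu : IsUnit (Polynomial.aeval (0 : c.X j') (P j')) := by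
      rw [← Polynomial.coeff_zero_eq_aeval_zero, up_coeff_zero]
      exact (N j').e1_g
    let e : C j' →+* c.X j' := IsLocalization.Away.lift (S := C j') (P j')
      (g := (Polynomial.aeval (0 : c.X j') : Polynomial (c.X j') →ₐ[c.X j'] c.X j').toRingHom) hu
    have he : e.comp (algebraMap (c.X j') (C j')) = RingHom.id _ := by
      apply RingHom.ext
      intro y
      have h1 := IsLocalization.Away.lift_eq (S := C j') (P j')
        (g := (Polynomial.aeval (0 : c.X j') : Polynomial (c.X j') →ₐ[c.X j'] c.X j').toRingHom) hu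
        (Polynomial.C y)
      have h2 : algebraMap (c.X j') (C j') y =
        algebraMap (Polynomial (c.X j')) (C j') (Polynomial.C y) := rfl
      rw [RingHom.comp_apply, h2]
      refine h1.trans ?_
      simp
    refine ⟨j', Spec.map (CommRingCat.ofHom e) p, ?_⟩
    have h1 : Spec.map (CommRingCat.ofHom e) ≫
        Spec.map (CommRingCat.ofHom (algebraMap (c.X j') (C j'))) = 𝟙 _ := by
      rw [← Spec.map_comp, ← CommRingCat.ofHom_comp, he]
      exact Spec.map_id _
    have h2 := congrArg (fun k : Spec (CommRingCat.of (c.X j')) ⟶ Spec (CommRingCat.of (c.X j')) =>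
      k p) h1
    change Spec.map (CommRingCat.ofHom (algebraMap (c.X j') (C j')))
      (Spec.map (CommRingCat.ofHom e) p) = p at h2
    exact (congrArg (s j') h2).trans hp
  · intro j
    rw [hr j, (ch j).pts_uu]

/-! ### dichotomy and comparison -/

/-- over a connected base a root is tangent everywhere or nowhere -/
theorem E_eq [PreconnectedSpace S] [IsImmersion i.left] [Smooth H.hom] (t : D.T ⟶ H)
    (ht : t ≫ i = D.i) (a : D.idx) : E D i a = ∅ ∨ E D i a = Set.univ :=
  isClopen_iff.mp (isClopen_E D i t ht a)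

theorem exists_lift_iff [ConnectedSpace S] [IsImmersion i.left] [Smooth H.hom] (t : D.T ⟶ H)
    (ht : t ≫ i = D.i) (a : D.idx) (σ : S) : (∃ v : Red.Ga S ⟶ H, v ≫ i = D.u a) ↔ σ ∈ E D i a := by
  constructor
  · intro h
    exact mem_E_of_lift D i a h σ
  · intro h
    rcases E_eq D i t ht a with h1 | h1
    · rw [h1] at h
      exact absurd h (Set.notMem_empty _)
    · exact exists_lift_u D i t ht a h1

/-- **TR3.** A subgroup of type (R) containing the torus is contained in every subgroup containing the torus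
and its root groups. -/
theorem exists_le [ConnectedSpace S] [IsImmersion i.left] [Smooth H.hom]
    (hconn : _root_.RedSub.HasConnectedFibres H) (t : D.T ⟶ H) (ht : t ≫ i = D.i)
    {H₂ : Over S} [GrpObj H₂] (i₂ : H₂ ⟶ G) [IsMonHom i₂] [Mono i₂] (t₂ : D.T ⟶ H₂) (ht₂ : t₂ ≫ i₂ = D.i)
    (hu : ∀ a, (∃ v : Red.Ga S ⟶ H, v ≫ i = D.u a) → ∃ v : Red.Ga S ⟶ H₂, v ≫ i₂ = D.u a) :
    ∃ v : H ⟶ H₂, v ≫ i₂ = i := by
  let c := S.affineOpenCover
  let s : ∀ j : c.I₀, Spec (CommRingCat.of (c.X j)) ⟶ S := fun j => c.f j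
  have hs : ∀ j, IsOpenImmersion (s j) := fun j => inferInstanceAs (IsOpenImmersion (c.f j))
  have hch := fun j : c.I₀ => exists_chart_nbd D i (s j)
  choose ch N m hm hm' using hch
  let Rs : D.idx → Prop := fun a => ∃ v : Red.Ga S ⟶ H, v ≫ i = D.u a
  have hin : ∀ j, ∀ b, Rs b → ∀ {C : Type u} [CommRing C] [Algebra (c.X j) C] (x : C),
      (sub (ch j) i).mem (((ch j).datum D).uu b C x) := by
    rintro j b ⟨v, hv⟩ C _ _ x
    rw [mem_sub, (ch j).pts_uu]
    exact ⟨gaPt _ _ ≫ v, by rw [Category.assoc, hv]⟩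
  have hin₂ : ∀ j, ∀ b, Rs b → ∀ {C : Type u} [CommRing C] [Algebra (c.X j) C] (x : C),
      (sub (ch j) i₂).mem (((ch j).datum D).uu b C x) := by
    rintro j b hb C _ _ x
    obtain ⟨v, hv⟩ := hu b hb
    rw [mem_sub, (ch j).pts_uu]
    exact ⟨gaPt _ _ ≫ v, by rw [Category.assoc, hv]⟩
  have hout : ∀ j, ∀ b, ¬ Rs b → ∃ f ∈ (N j).J 1, IsW ((ch j).datum D) (((ch j).datum D).root b) f ∧
      lin ((ch j).datum D) b f = 1 := by
    intro j b hb
    have h1 : E D i b = ∅ := by
      rcases E_eq D i t ht b with h1 | h1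
      · exact h1
      · exact absurd (exists_lift_u D i t ht b h1) hb
    exact one_mem_aI_of_E D i t ht b h1 (s j) (ch j) (N j)
  have hgerm := fun j : c.I₀ => Germ.exists_germ (N j) ((ch j).good D)
    (fun y => hT_sub D i (ch j) t ht y) Rs (hin j) (hout j)
    (((ch j).datum D).signList fun _ => 0) (((ch j).datum D).signList_nodup fun _ => 0)
    (((ch j).datum D).mem_signList fun _ => 0)
  choose E' hE1 hE2 l x y e hl hx hly he using hgerm
  have hmem : ∀ j, (sub (ch j) i₂).mem (((ch j).datum D).cell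
      (((ch j).datum D).signList fun _ => 0) (x j) (y j)) := by
    intro j
    apply Germ.mem_cell (fun y => hT_sub D i₂ (ch j) t₂ ht₂ y)
    intro b
    by_cases hb : Rs b
    · exact hin₂ j b hb _
    · rw [hx j b hb, uu_zero]
      exact (sub (ch j) i₂).one_mem
  choose r hr using hmem
  refine exists_lift_of_local_germs i i₂ hconn (fun j => tB (s j) (E' j))
    (fun j => tMap (s j) (l j) ≫ m j) (fun j => ?_) (fun j => ?_) ?_ r ?_
  · have h1 := hm' j (hs j)
    have h2 : Etale (tMap (s j) (l j)).left := by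
      rw [tMap_left, HasRingHomProperty.Spec_iff (P := @Etale)]
      exact hl j
    rw [Over.comp_left]
    infer_instance
  · have h1 := hm' j (hs j)
    have h2 : Etale (tMap (s j) (l j)).left := by
      rw [tMap_left, HasRingHomProperty.Spec_iff (P := @Etale)]
      exact hl j
    rw [Over.comp_left]
    infer_instance
  · intro σ
    obtain ⟨j, p, hp⟩ := c.openCover.exists_eq σ
    let j' : c.I₀ := j
    refine ⟨j', Spec.map (CommRingCat.ofHom (e j' : E' j' →+* c.X j')) p, ?_⟩
    have h1 : Spec.map (CommRingCat.ofHom (e j' : E' j' →+* c.X j')) ≫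
        Spec.map (CommRingCat.ofHom (algebraMap (c.X j') (E' j'))) = 𝟙 _ := by
      rw [← Spec.map_comp, ← CommRingCat.ofHom_comp, AlgHom.comp_algebraMap]
      exact Spec.map_id _
    have h2 := congrArg (fun k : Spec (CommRingCat.of (c.X j')) ⟶ Spec (CommRingCat.of (c.X j')) =>
      k p) h1
    change Spec.map (CommRingCat.ofHom (algebraMap (c.X j') (E' j')))
      (Spec.map (CommRingCat.ofHom (e j' : E' j' →+* c.X j')) p) = p at h2
    exact (congrArg (s j') h2).trans hp
  · intro j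
    rw [hr j, Category.assoc, hm j, (ch j).pts_nat, hly j]

/-- **Uniqueness.** -/
theorem exists_iso [ConnectedSpace S] {H₁ H₂ : Over S} [GrpObj H₁] [GrpObj H₂] (h₁ : H₁ ⟶ G) (h₂ : H₂ ⟶ G)
    (t₁ : D.T ⟶ H₁) (t₂ : D.T ⟶ H₂) (hR₁ : _root_.RedSub.IsTypeR h₁) (hR₂ : _root_.RedSub.IsTypeR h₂)
    (ht₁ : t₁ ≫ h₁ = D.i) (ht₂ : t₂ ≫ h₂ = D.i)
    (h : ∀ a, (∃ v : Red.Ga S ⟶ H₁, v ≫ h₁ = D.u a) ↔ ∃ v : Red.Ga S ⟶ H₂, v ≫ h₂ = D.u a) :
    ∃ e : H₁ ≅ H₂, e.hom ≫ h₂ = h₁ := by
  obtain ⟨⟨hm₁, hi₁⟩, hs₁, -, hc₁, -⟩ := hR₁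
  obtain ⟨⟨hm₂, hi₂⟩, hs₂, -, hc₂, -⟩ := hR₂
  have hmono₁ : Mono h₁ := Over.mono_of_mono_left h₁
  have hmono₂ : Mono h₂ := Over.mono_of_mono_left h₂
  obtain ⟨v, hv⟩ := exists_le D h₁ hc₁ t₁ ht₁ h₂ t₂ ht₂ (fun a => (h a).mp)
  obtain ⟨w, hw⟩ := exists_le D h₂ hc₂ t₂ ht₂ h₁ t₁ ht₁ (fun a => (h a).mpr)
  refine ⟨⟨v, w, ?_, ?_⟩, hv⟩
  · rw [← cancel_mono h₁, Category.assoc, hw, hv, Category.id_comp]
  · rw [← cancel_mono h₂, Category.assoc, hv, hw, Category.id_comp]

end Groth.Agent.RedSub.H635.Uniq
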