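import Groth.Agent.RedSub.H635.Uniq
import Groth.Agent.RedSub.H641.Assemble

/-!
# Uniqueness over a local base, from the closed fibre
-/

set_option autoImplicit false
universe u

open CategoryTheory MonoidalCategory CartesianMonoidalCategory MonObj GrpObj AlgebraicGeometry Limits

namespace Groth.Agent.RedSub.H635.UniqLoc

open Groth.Agent.Sga3B.Cell Groth.Agent.Sga3B.Cell.Datum Groth.Agent.Sga3B Groth.Agent.Sga3B.PinMod
open DSPts GaPts ConjCoact Wt Loc SchNbd Uniq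

/-- two subgroups of type (R) containing the torus with the same tangent roots at one point are isomorphic -/
theorem exists_iso_of_point {S : Scheme.{u}} [ConnectedSpace S] {G H₁ H₂ : Over S} [GrpObj G] [GrpObj H₁]
    [GrpObj H₂] (D : Red.SplitRed G) (h₁ : H₁ ⟶ G) (h₂ : H₂ ⟶ G)
    (t₁ : D.T ⟶ H₁) (t₂ : D.T ⟶ H₂) (hR₁ : _root_.RedSub.IsTypeR h₁) (hR₂ : _root_.RedSub.IsTypeR h₂)
    (ht₁ : t₁ ≫ h₁ = D.i) (ht₂ : t₂ ≫ h₂ = D.i) (σ : S)
    (h : ∀ a, haveI := hR₁.1.1; haveI := hR₂.1.1; σ ∈ E D h₁ a ↔ σ ∈ E D h₂ a) :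
    ∃ e : H₁ ≅ H₂, e.hom ≫ h₂ = h₁ := by
  have hm₁ := hR₁.1.1
  have hm₂ := hR₂.1.1
  have hi₁ := hR₁.1.2
  have hi₂ := hR₂.1.2
  have hs₁ := hR₁.2.1
  have hs₂ := hR₂.2.1
  apply exists_iso D h₁ h₂ t₁ t₂ hR₁ hR₂ ht₁ ht₂
  intro a
  rw [exists_lift_iff D h₁ t₁ ht₁ a σ, exists_lift_iff D h₂ t₂ ht₂ a σ]
  exact h a

lemma connectedSpace_of_local (B : Type u) [CommRing B] [IsLocalRing B] :
    ConnectedSpace (PrimeSpectrum B) := by
  have h1 : PreconnectedSpace (PrimeSpectrum B) := by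
    rw [preconnectedSpace_iff_clopen]
    intro s hs
    by_cases h : IsLocalRing.closedPoint B ∈ s
    · right
      have h2 := (IsLocalRing.closedPoint_mem_iff (U := ⟨s, hs.isOpen⟩)).mp h
      exact congrArg (fun U : TopologicalSpace.Opens (PrimeSpectrum B) => U.carrier) h2
    · left
      have h2 := (IsLocalRing.closedPoint_mem_iff (U := ⟨sᶜ, hs.compl.isOpen⟩)).mp h
      have h3 : sᶜ = Set.univ :=
        congrArg (fun U : TopologicalSpace.Opens (PrimeSpectrum B) => U.carrier) h2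
      rwa [Set.compl_univ_iff] at h3
  exact { toNonempty := inferInstance }

/-- **The local form.** -/
theorem uniqStmt : H641.Assemble.UniqStmt.{u} := by
  intro B _ _ I hI G H₁ H₂ _ _ _ D i₁ i₂ hR₁ hR₂ t₁ t₂ ht₁ ht₂ hred X y
  have hm₁ := hR₁.1.1
  have hm₂ := hR₂.1.1
  have hconn : ConnectedSpace (Spec (CommRingCat.of B)) :=
    connectedSpace_of_local B
  have hIm : I ≤ IsLocalRing.maximalIdeal B := by
    intro z hz
    rw [IsLocalRing.mem_maximalIdeal]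
    intro hu
    have h1 : z * z ∈ I * I := Ideal.mul_mem_mul hz hz
    rw [hI] at h1
    exact (hu.mul hu).ne_zero h1
  have key : ∀ (H : Over (Spec (CommRingCat.of B))) [GrpObj H]
      (H' : Over (Spec (CommRingCat.of B))) [GrpObj H'] (i : H ⟶ G) (i' : H' ⟶ G) [IsMonHom i] [IsMonHom i'],
      (∀ (X : Over (Spec (CommRingCat.of B))), (∃ z : X.left ⟶ Spec (CommRingCat.of (B ⧸ I)),
        z ≫ Spec.map (CommRingCat.ofHom (Ideal.Quotient.mk I)) = X.hom) →
        ∀ y : X ⟶ G, (∃ a, a ≫ i = y) → ∃ a, a ≫ i' = y) →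
      ∀ a : D.idx, (IsLocalRing.closedPoint B : Spec (CommRingCat.of B)) ∈ E D i a →
        (IsLocalRing.closedPoint B : Spec (CommRingCat.of B)) ∈ E D i' a := by
    rintro H _ H' _ i i' _ _ hH a ⟨K, _, x, ⟨p, hp⟩, hx⟩
    refine ⟨K, inferInstance, x, ⟨p, hp⟩, ?_⟩
    refine hH _ ?_ _ hx
    obtain ⟨φ, hφ⟩ := Spec.map_surjective x
    have hφI : ∀ z ∈ I, φ.hom z = 0 := by
      intro z hz
      have h1 : z ∈ (x p).asIdeal := by
        rw [hp]
        exact hIm hz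
      rw [← hφ] at h1
      have h2 : φ.hom z ∈ p.asIdeal := h1
      have h3 : p.asIdeal = ⊥ := by
        rcases Ideal.eq_bot_or_top p.asIdeal with h | h
        · exact h
        · exact absurd h p.2.ne_top
      rw [h3] at h2
      exact h2
    let ψ : B ⧸ I →+* K := Ideal.Quotient.lift I φ.hom hφI
    refine ⟨Spec.map (CommRingCat.ofHom ((algebraMap K (TrivSqZeroExt K K)).comp ψ)), ?_⟩
    change _ = Spec.map (CommRingCat.ofHom (algebraMap K (TrivSqZeroExt K K))) ≫ x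
    rw [← hφ, ← Spec.map_comp, ← Spec.map_comp]
    congr 1
  obtain ⟨e, he⟩ := exists_iso_of_point D i₁ i₂ t₁ t₂ hR₁ hR₂ ht₁ ht₂
    (IsLocalRing.closedPoint B : Spec (CommRingCat.of B)) (fun a =>
      ⟨key H₁ H₂ i₁ i₂ (fun X hX y => (hred X hX y).mp) a,
        key H₂ H₁ i₂ i₁ (fun X hX y => (hred X hX y).mpr) a⟩)
  constructor
  · rintro ⟨a, rfl⟩
    exact ⟨a ≫ e.hom, by rw [Category.assoc, he]⟩
  · rintro ⟨a, rfl⟩
    exact ⟨a ≫ e.inv, by rw [Category.assoc, ← he, e.inv_hom_id_assoc]⟩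

end Groth.Agent.RedSub.H635.UniqLoc
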