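import Groth.Agent.RedSub.H635.ConjCoact
import Groth.Agent.Sga3B.CellEt

/-!
# Weights of the conjugation coaction on `A`, `I_A / I_A²`
-/

set_option autoImplicit false
universe u

namespace Groth.Agent.RedSub.H635.Wt

open Groth.Agent.Sga3B.Cell Groth.Agent.Sga3B.Cell.Datum Groth.Agent.Sga3B
open ConjCoact Polynomial

variable {R A : Type u} [CommRing R] [CommRing A] [Algebra R A] [PtGrp R A]
variable {B C : Type u} [CommRing B] [Algebra R B] [CommRing C] [Algebra R C]

/-- the unit section -/
noncomputable def e1 (R A : Type u) [CommRing R] [CommRing A] [Algebra R A] [PtGrp R A] : A →ₐ[R] R :=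
  (1 : Pt R A R).hom

lemma one_hom_apply (f : A) : (1 : Pt R A B).hom f = algebraMap R B (e1 R A f) := by
  have h := Pt.map_one (R := R) (A := A) (Algebra.ofId R B)
  exact (congrArg (fun k : Pt R A B => k.hom f) h).symm

/-- the augmentation ideal -/
noncomputable def I1 (R A : Type u) [CommRing R] [CommRing A] [Algebra R A] [PtGrp R A] : Ideal A :=
  RingHom.ker (e1 R A)

lemma mem_I1 {f : A} : f ∈ I1 R A ↔ e1 R A f = 0 := Iff.rfl

variable (D : Datum R A)

/-- restriction to a root group -/
noncomputable def up (a : D.idx) : A →ₐ[R] R[X] := (D.uu a R[X] X).hom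

lemma uu_hom_apply (a : D.idx) (x : B) (f : A) : (D.uu a B x).hom f = aeval x (up D a f) := by
  have h := D.uu_nat a (Polynomial.aeval x : R[X] →ₐ[R] B) X
  rw [Polynomial.aeval_X] at h
  exact (congrArg (fun k : Pt R A B => k.hom f) h).symm

lemma up_coeff_zero (a : D.idx) (f : A) : (up D a f).coeff 0 = e1 R A f := by
  have h := uu_hom_apply D a (0 : R) f
  rw [uu_zero] at h
  rw [Polynomial.coeff_zero_eq_aeval_zero, ← h]
  rfl

/-- the linear part of the restriction to a root group -/
noncomputable def lin (a : D.idx) (f : A) : R := (up D a f).coeff 1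

lemma lin_add (a : D.idx) (f g : A) : lin D a (f + g) = lin D a f + lin D a g := by
  simp [lin]

lemma lin_smul (a : D.idx) (r : R) (f : A) : lin D a (r • f) = r * lin D a f := by
  simp [lin]

lemma lin_sub (a : D.idx) (f g : A) : lin D a (f - g) = lin D a f - lin D a g := by
  simp [lin]

lemma lin_mul (a : D.idx) (f g : A) :
    lin D a (f * g) = lin D a f * e1 R A g + e1 R A f * lin D a g := by
  rw [lin, map_mul, Polynomial.mul_coeff_one, up_coeff_zero, up_coeff_zero, lin, lin]
  ring

lemma lin_mem_sq (a : D.idx) {f : A} (hf : f ∈ (I1 R A) ^ 2) : lin D a f = 0 := by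
  rw [pow_two] at hf
  induction hf using Submodule.mul_induction_on' with
  | mem_mul_mem x hx y hy =>
    rw [lin_mul, mem_I1.mp hx, mem_I1.mp hy]
    ring
  | add x _ y _ hx hy => rw [lin_add, hx, hy, add_zero]

/-- homogeneous elements -/
def IsW (m : D.M) (f : A) : Prop := rho D f = MonoidAlgebra.single (Multiplicative.ofAdd m) f

variable {D}

lemma isW_add {m : D.M} {f g : A} (hf : IsW D m f) (hg : IsW D m g) : IsW D m (f + g) := by
  unfold IsW at *
  rw [map_add, hf, hg, MonoidAlgebra.single_add]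

lemma isW_smul {m : D.M} {f : A} (r : R) (hf : IsW D m f) : IsW D m (r • f) := by
  unfold IsW at *
  rw [map_smul, hf, MonoidAlgebra.smul_single]

lemma isW_sub {m : D.M} {f g : A} (hf : IsW D m f) (hg : IsW D m g) : IsW D m (f - g) := by
  unfold IsW at *
  rw [map_sub, hf, hg, MonoidAlgebra.single_sub]

lemma isW_mul {m n : D.M} {f g : A} (hf : IsW D m f) (hg : IsW D n g) : IsW D (m + n) (f * g) := by
  unfold IsW at *
  rw [map_mul, hf, hg, MonoidAlgebra.single_mul_single]
  rfl

lemma isW_coeff (f : A) (m : D.M) : IsW D m ((rho D f).coeff (Multiplicative.ofAdd m)) :=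
  rho_coeff D f _

variable (D)

lemma orb_apply_of_isW {m : D.M} {f : A} (hf : IsW D m f) (g : Pt R A B) :
    (orb D g).hom f = MonoidAlgebra.single (Multiplicative.ofAdd m) (g.hom f) := by
  rw [orb_hom_apply, hf, mM_single]

lemma orb_uu (a : D.idx) (x : B) :
    orb D (D.uu a B x) = D.uu a _ (MonoidAlgebra.single (Multiplicative.ofAdd (D.root a)) x) := by
  unfold orb
  rw [D.uu_nat, D.rel]
  congr 1
  rw [ch_sU, cM_apply, MonoidAlgebra.single_mul_single]
  simp

lemma orb_i (t : TPt D.M B) : orb D (D.i B t) = Pt.map (cM D B) (D.i B t) := by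
  unfold orb
  rw [D.i_nat]
  have h : ∀ s s' : TPt D.M (MA D B), D.i _ s * D.i _ s' * (D.i _ s)⁻¹ = D.i _ s' := by
    intro s s'
    rw [← i_mul', TPt.mul_comm', i_mul']
    group
  exact h _ _

lemma pi_eq_zero {m : D.M} {f : A} (hf : IsW D m f) (hm : m ≠ 0) : D.pi f = 0 := by
  have h := congrArg (fun g : Pt R A _ => (g.hom f).coeff (Multiplicative.ofAdd m))
    (orb_i D (D.sU (B := R)))
  rw [orb_apply_of_isW D hf, Pt.map_hom_apply, cM_apply, MonoidAlgebra.coeff_single,
    MonoidAlgebra.coeff_single, Finsupp.single_eq_same, Finsupp.single_eq_of_ne] at h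
  · exact h
  · intro h1
    exact hm (congrArg Multiplicative.toAdd h1)

lemma e1_eq (f : A) : e1 R A f = D.evT (1 : TPt D.M R) (D.pi f) := by
  rw [← i_hom_apply, i_one']
  rfl

lemma e1_eq_zero {m : D.M} {f : A} (hf : IsW D m f) (hm : m ≠ 0) : e1 R A f = 0 := by
  rw [e1_eq D, pi_eq_zero D hf hm, map_zero]

lemma coeff_up_eq_zero {m : D.M} {f : A} (hf : IsW D m f) (a : D.idx) (k : ℕ)
    (hk : m ≠ k • D.root a) : (up D a f).coeff k = 0 := by
  have h := congrArg (fun g : Pt R A _ => (g.hom f)) (orb_uu D a (X : R[X]))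
  rw [orb_apply_of_isW D hf, uu_hom_apply D a (MonoidAlgebra.single _ _) f,
    Polynomial.aeval_eq_sum_range] at h
  change MonoidAlgebra.single _ (up D a f) = _ at h
  have h2 := congrArg (fun z : MA D R[X] =>
    (z.coeff (Multiplicative.ofAdd (k • D.root a))).coeff k) h
  simp only [MonoidAlgebra.coeff_single, MonoidAlgebra.coeff_sum, Finsupp.finsetSum_apply,
    MonoidAlgebra.single_pow, MonoidAlgebra.smul_single] at h2
  rw [Finsupp.single_eq_of_ne (by
    intro h3
    exact hk (congrArg Multiplicative.toAdd h3).symm), Polynomial.coeff_zero] at h2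
  rw [Polynomial.finsetSum_coeff] at h2
  have hM : ∀ n : ℕ, n • D.root a = k • D.root a → n = k := by
    intro n hn
    have h4 : ((n : ℤ) - (k : ℤ)) • D.root a = 0 := by
      rw [sub_smul, natCast_zsmul, natCast_zsmul, hn, sub_self]
    rcases smul_eq_zero.mp h4 with h5 | h5
    · omega
    · exact absurd h5 (D.root_ne a)
  have h5 : ∀ n ∈ Finset.range ((up D a f).natDegree + 1),
      ((Finsupp.single (Multiplicative.ofAdd (D.root a) ^ n) ((up D a f).coeff n • (X : R[X]) ^ n))
        (Multiplicative.ofAdd (k • D.root a))).coeff k =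
      if n = k then (up D a f).coeff k else 0 := by
    intro n _
    rw [← ofAdd_nsmul]
    split_ifs with hnk
    · subst hnk
      rw [Finsupp.single_eq_same]
      simp
    · rw [Finsupp.single_eq_of_ne, Polynomial.coeff_zero]
      intro h6
      exact hnk (hM n (congrArg Multiplicative.toAdd h6).symm)
  rw [Finset.sum_congr rfl h5, Finset.sum_ite_eq'] at h2
  by_cases hk2 : k ∈ Finset.range ((up D a f).natDegree + 1)
  · rw [if_pos hk2] at h2
    exact h2.symm
  · rw [Finset.mem_range, not_lt] at hk2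
    exact Polynomial.coeff_eq_zero_of_natDegree_lt (by omega)

lemma lin_eq_zero {m : D.M} {f : A} (hf : IsW D m f) (a : D.idx) (h : D.root a ≠ m) :
    lin D a f = 0 := by
  apply coeff_up_eq_zero D hf a 1
  rw [one_smul]
  exact h.symm


/-! ### first order expansion of functions on the cell -/

/-- linear coefficient of a function on the cell at the origin -/
noncomputable def cl (a : D.idx) (z : D.CR) : R :=
  by classical exact (D.ev (Pi.single a (X : R[X])) 1 z).coeff 1

lemma cl_phi {L : List D.idx} (hL : L.Nodup) (hL' : ∀ a, a ∈ L) (a : D.idx) (f : A) :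
    cl D a (D.phi L f) = lin D a f := by
  classical
  unfold cl lin up
  rw [ev_phi]
  congr 2
  unfold cell
  rw [i_one', mul_one]
  have h : (L.map fun b => D.uu b R[X] ((Pi.single a (X : R[X]) : D.idx → R[X]) b)).prod =
      D.uu a R[X] X := by
    rw [List.prod_map_eq_pow_single a]
    · rw [List.count_eq_one_of_mem hL (hL' a), pow_one, Pi.single_eq_same]
    · intro b hb _
      rw [Pi.single_eq_of_ne hb, uu_zero]
  rw [h]

lemma ev_first {J : Ideal B} (hJ : ∀ x ∈ J, ∀ y ∈ J, x * y = 0) {x : D.idx → B} {t : TPt D.M B}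
    (hx : ∀ a, x a ∈ J) (ht : ∀ m, (t m : B) - 1 ∈ J) (z : D.CR) :
    D.ev x t z = D.evT t (MvPolynomial.constantCoeff z) +
      ∑ a, algebraMap R B (cl D a z) * x a := by
  classical
  -- reduction modulo J
  have key : ∀ z : D.CR, D.ev x t z - algebraMap R B (D.ev0 z) ∈ J := by
    intro z
    have h1 : (Ideal.Quotient.mkₐ R J).comp (D.ev x t) =
        (Algebra.ofId R (B ⧸ J)).comp D.ev0 := by
      rw [comp_ev, ev0, comp_ev]
      congr 1
      · funext a
        rw [map_zero]
        exact Ideal.Quotient.eq_zero_iff_mem.mpr (hx a)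
      · apply TPt.ext_ch
        intro m
        rw [TPt.ch_map, TPt.ch_map, TPt.ch_one, map_one]
        exact (Ideal.Quotient.eq.mpr (ht (Multiplicative.ofAdd m)))
    exact Ideal.Quotient.eq.mp (congrArg (fun k : D.CR →ₐ[R] B ⧸ J => k z) h1)
  induction z using MvPolynomial.induction_on with
  | C r =>
    have h1 : D.ev x t (MvPolynomial.C r) = D.evT t r := by
      simp [ev]
    have h2 : ∀ a, cl D a (MvPolynomial.C r) = 0 := by
      intro a
      unfold cl
      have h3 : D.ev (Pi.single a (X : R[X])) 1 (MvPolynomial.C r) = D.evT 1 r := by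
        simp [ev]
      rw [h3]
      have h4 : D.evT (1 : TPt D.M R[X]) r = Polynomial.C (D.evT (1 : TPt D.M R) r) := by
        rw [evT_apply, evT_apply, Finsupp.sum, Finsupp.sum, map_sum]
        apply Finset.sum_congr rfl
        intro n _
        simp
      rw [h4, Polynomial.coeff_C]
      simp
    rw [h1]
    simp [h2]
  | add p q hp hq =>
    have h2 : ∀ a, cl D a (p + q) = cl D a p + cl D a q := by
      intro a
      simp [cl]
    rw [map_add, hp, hq, map_add, map_add]
    simp only [h2, map_add, add_mul, Finset.sum_add_distrib]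
    ring
  | mul_X p b hp =>
    have h1 : D.ev x t (p * MvPolynomial.X b) = algebraMap R B (D.ev0 p) * x b := by
      rw [map_mul, ev_X]
      have h3 := hJ _ (key p) _ (hx b)
      rw [sub_mul, sub_eq_zero] at h3
      exact h3
    have h2 : ∀ a, cl D a (p * MvPolynomial.X b) = if a = b then D.ev0 p else 0 := by
      intro a
      unfold cl
      rw [map_mul, ev_X, Pi.single_apply]
      split_ifs with h3 h4 h4
      · rw [Polynomial.coeff_mul_X]
        have h5 := D.comp_ev (Polynomial.aeval (0 : R) : R[X] →ₐ[R] R)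
          (Pi.single a (X : R[X])) (1 : TPt D.M R[X])
        have h6 : (Polynomial.aeval (0 : R) : R[X] →ₐ[R] R).comp
            (D.ev (Pi.single a (X : R[X])) (1 : TPt D.M R[X])) = D.ev0 := by
          rw [h5, ev0, map_one]
          congr 1
          funext c
          by_cases hc : c = a
          · subst hc; simp
          · rw [Pi.single_eq_of_ne hc, map_zero]
        rw [Polynomial.coeff_zero_eq_aeval_zero, ← h6]
        rfl
      · exact absurd h3.symm h4
      · exact absurd h4.symm h3
      · simp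
    rw [h1, map_mul, MvPolynomial.constantCoeff_X, mul_zero, map_zero, zero_add,
      Finset.sum_eq_single b]
    · rw [h2, if_pos rfl]
    · intro a _ hab
      rw [h2, if_neg hab, map_zero, zero_mul]
    · intro h
      exact absurd (Finset.mem_univ b) h

lemma constantCoeff_phi (L : List D.idx) (f : A) :
    MvPolynomial.constantCoeff (D.phi L f) = D.pi f := by
  have h3 := D.ev_phi L (fun _ => (0 : MonoidAlgebra R (Multiplicative D.M)))
    (D.sU (B := R)) f
  have h4 : D.ev (fun _ => (0 : MonoidAlgebra R (Multiplicative D.M))) (D.sU (B := R)) =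
      (MvPolynomial.aeval (fun _ => 0) :
        D.CR →ₐ[MonoidAlgebra R (Multiplicative D.M)] _).restrictScalars R := by
    apply D.algHom_ext
    · intro a; simp
    · intro m
      rw [ch_tU, ev_C_single]
      change _ = MvPolynomial.aeval (fun _ => 0) (MvPolynomial.C _)
      rw [MvPolynomial.aeval_C]
      rfl
  rw [cell_zero] at h3
  rw [show D.pi f = (D.i _ (D.sU (B := R))).hom f from rfl, ← h3, h4]
  change _ = MvPolynomial.aeval (fun _ => 0) (D.phi L f)
  rw [MvPolynomial.aeval_zero']
  rfl

/-! ### the expansion modulo `I_A²` -/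

/-- the retraction `A / I_A² → R` -/
noncomputable def eQ (R A : Type u) [CommRing R] [CommRing A] [Algebra R A] [PtGrp R A] :
    (A ⧸ (I1 R A) ^ 2) →ₐ[R] R :=
  Ideal.Quotient.liftₐ ((I1 R A) ^ 2) (e1 R A) (fun _ ha => Ideal.pow_le_self two_ne_zero ha)

lemma eQ_mk (f : A) : eQ R A (Ideal.Quotient.mk _ f) = e1 R A f := rfl

lemma ker_eQ_mul {x y : A ⧸ (I1 R A) ^ 2} (hx : x ∈ RingHom.ker (eQ R A))
    (hy : y ∈ RingHom.ker (eQ R A)) : x * y = 0 := by
  obtain ⟨x, rfl⟩ := Ideal.Quotient.mk_surjective x
  obtain ⟨y, rfl⟩ := Ideal.Quotient.mk_surjective y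
  rw [← map_mul, Ideal.Quotient.eq_zero_iff_mem, pow_two]
  exact Ideal.mul_mem_mul hx hy

theorem exists_expansion (hG : D.Good) : ∃ (x : D.idx → A ⧸ (I1 R A) ^ 2)
    (t : TPt D.M (A ⧸ (I1 R A) ^ 2)), (∀ a, x a ∈ RingHom.ker (eQ R A)) ∧
    (∀ m, ((t m : _) : A ⧸ (I1 R A) ^ 2) - 1 ∈ RingHom.ker (eQ R A)) ∧
    ∀ f : A, Ideal.Quotient.mk ((I1 R A) ^ 2) f = D.evT t (D.pi f) +
      ∑ a, algebraMap R _ (lin D a f) * x a := by
  set L := D.signList (fun _ => 0) with hLdef
  have hL := D.signList_nodup (fun _ => 0)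
  have hL' := D.mem_signList (fun _ => 0)
  obtain ⟨δ, hδ, hδ0⟩ := hG L hL hL'
  have hsurj : Function.Surjective (eQ R A) := by
    intro r
    exact ⟨algebraMap R _ r, AlgHom.commutes _ _⟩
  have hker : IsNilpotent (RingHom.ker (eQ R A : (A ⧸ (I1 R A) ^ 2) →+* R)) := by
    refine ⟨2, ?_⟩
    rw [Ideal.zero_eq_bot, eq_bot_iff]
    refine le_trans (le_of_eq (pow_two _)) ?_
    rw [Ideal.mul_le]
    intro x hx y hy
    exact ker_eQ_mul hx hy
  have h1 : D.cell L (fun _ => (0 : R)) (1 : TPt D.M R) =
      Pt.map (eQ R A) (Pt.mk (Ideal.Quotient.mkₐ R ((I1 R A) ^ 2))) := by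
    rw [cell_zero, i_one']
    rfl
  obtain ⟨x, t, hx, ht, hxt⟩ := EtOn.exists_lift D hδ hsurj hker (x₀ := fun _ => (0 : R))
    (t₀ := (1 : TPt D.M R)) (by
      change IsUnit (D.ev0 δ)
      rw [hδ0]
      exact isUnit_one) h1
  have hx' : ∀ a, x a ∈ RingHom.ker (eQ R A) := fun a => hx a
  have ht' : ∀ m, ((t m : _) : A ⧸ (I1 R A) ^ 2) - 1 ∈ RingHom.ker (eQ R A) := by
    intro m
    rw [RingHom.mem_ker, map_sub, map_one, sub_eq_zero]
    have h2 := congrArg (TPt.ch m.toAdd) ht
    exact h2
  refine ⟨x, t, hx', ht', ?_⟩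
  intro f
  have h2 := congrArg (fun g : Pt R A _ => g.hom f) hxt
  change (D.cell L x t).hom f = Ideal.Quotient.mk _ f at h2
  rw [← h2, ← ev_phi, ev_first D (J := RingHom.ker (eQ R A))
    (fun _ hx _ hy => ker_eQ_mul hx hy) hx' ht']
  congr 1
  · rw [constantCoeff_phi]
  · apply Finset.sum_congr rfl
    intro a _
    rw [cl_phi D hL hL']

/-- homogeneous functions of nonzero weight without linear part vanish to order two -/
theorem mem_sq_of_lin (hG : D.Good) {m : D.M} (hm : m ≠ 0) {f : A} (hf : IsW D m f)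
    (h : ∀ a, D.root a = m → lin D a f = 0) : f ∈ (I1 R A) ^ 2 := by
  obtain ⟨x, t, hx, ht, hxt⟩ := exists_expansion D hG
  rw [← Ideal.Quotient.eq_zero_iff_mem, hxt f, pi_eq_zero D hf hm, map_zero, zero_add]
  apply Finset.sum_eq_zero
  intro a _
  by_cases ha : D.root a = m
  · rw [h a ha, map_zero, zero_mul]
  · rw [lin_eq_zero D hf a ha, map_zero, zero_mul]

/-- the augmentation ideal of the torus -/
noncomputable def IT : Ideal (MonoidAlgebra R (Multiplicative D.M)) :=
  RingHom.ker (D.evT (1 : TPt D.M R))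

/-- homogeneous functions of weight zero whose restriction to the torus vanishes to order two -/
theorem mem_sq_of_pi (hG : D.Good) {f : A} (hf : IsW D 0 f) (h : D.pi f ∈ (IT D) ^ 2) :
    f ∈ (I1 R A) ^ 2 := by
  obtain ⟨x, t, hx, ht, hxt⟩ := exists_expansion D hG
  rw [← Ideal.Quotient.eq_zero_iff_mem, hxt f]
  have h1 : ∀ a, lin D a f = 0 := fun a => lin_eq_zero D hf a (D.root_ne a)
  have h2 : ∀ z ∈ (IT D) ^ 2, D.evT t z = 0 := by
    have h3 : ∀ z ∈ IT D, D.evT t z ∈ RingHom.ker (eQ R A) := by
      intro z hz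
      have h4 : (eQ R A).comp (D.evT t) = D.evT (1 : TPt D.M R) := by
        apply MonoidAlgebra.algHom_ext
        · intro m
          rw [AlgHom.comp_apply, evT_single, evT_single, map_mul]
          have h5 := ht m
          rw [RingHom.mem_ker, map_sub, map_one, sub_eq_zero] at h5
          rw [h5]
          simp
        · exact Subsingleton.elim _ _
      have h5 := congrArg (fun k : MonoidAlgebra R (Multiplicative D.M) →ₐ[R] R => k z) h4
      exact h5.trans hz
    intro z hz
    rw [pow_two] at hz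
    induction hz using Submodule.mul_induction_on' with
    | mem_mul_mem x hx y hy =>
      rw [map_mul]
      exact ker_eQ_mul (h3 _ hx) (h3 _ hy)
    | add x _ y _ hx hy => rw [map_add, hx, hy, add_zero]
  rw [h2 _ h, zero_add]
  apply Finset.sum_eq_zero
  intro a _
  rw [h1, map_zero, zero_mul]

/-- a homogeneous coordinate of a root group -/
theorem exists_omega (a : D.idx) : ∃ w : A, IsW D (D.root a) w ∧ up D a w = X ∧
    (∀ b, b ≠ a → lin D b w = 0) ∧ e1 R A w = 0 := by
  obtain ⟨f, hf⟩ := D.uu_surj a X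
  change up D a f = X at hf
  refine ⟨(rho D f).coeff (Multiplicative.ofAdd (D.root a)), isW_coeff f _, ?_, ?_, ?_⟩
  · have h1 := sum_rho D f
    have h2 := congrArg (up D a) h1
    rw [Finsupp.sum, map_sum, hf] at h2
    have hco : ∀ m : Multiplicative D.M, ∀ k : ℕ, m.toAdd ≠ k • D.root a →
        (up D a ((rho D f).coeff m)).coeff k = 0 := fun m k hk =>
      coeff_up_eq_zero D (isW_coeff f m.toAdd) a k hk
    ext k
    by_cases hk : k = 1
    · subst hk
      have h3 := congrArg (fun z : R[X] => z.coeff 1) h2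
      simp only [Polynomial.finsetSum_coeff] at h3
      rw [Finset.sum_eq_single (Multiplicative.ofAdd (D.root a))] at h3
      · exact h3
      · intro m _ hm
        apply hco
        rw [one_smul]
        exact hm
      · intro hm
        rw [Finsupp.notMem_support_iff] at hm
        rw [hm, map_zero, Polynomial.coeff_zero]
    · rw [Polynomial.coeff_X, if_neg (Ne.symm hk)]
      apply hco
      intro h3
      have h4 : ((k : ℤ) - 1) • D.root a = 0 := by
        rw [sub_smul, natCast_zsmul, one_smul, ← h3]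
        exact sub_self _
      rcases smul_eq_zero.mp h4 with h5 | h5
      · omega
      · exact D.root_ne a h5
  · intro b hb
    apply lin_eq_zero D (isW_coeff f _)
    intro h
    exact hb (D.root_inj h)
  · exact e1_eq_zero D (isW_coeff f _) (D.root_ne a)

lemma lin_omega {a : D.idx} {w : A} (hw : up D a w = X) : lin D a w = 1 := by
  rw [lin, hw, Polynomial.coeff_X_one]

/-- a homogeneous function of weight `root a` is a multiple of `w` modulo `I²` -/
theorem sub_smul_mem_sq (hG : D.Good) {a : D.idx} {w f : A} (hw : IsW D (D.root a) w)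
    (hw1 : lin D a w = 1) (hf : IsW D (D.root a) f) : f - lin D a f • w ∈ (I1 R A) ^ 2 := by
  apply mem_sq_of_lin D hG (D.root_ne a) (isW_sub hf (isW_smul _ hw))
  intro b hb
  have hb' : b = a := D.root_inj hb
  subst hb'
  rw [lin_sub, lin_smul, hw1, mul_one, sub_self]

end Groth.Agent.RedSub.H635.Wt
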